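import Mathlib

/-! Successive approximation of the equation `u v = ε` in a deformation of a node. -/

set_option autoImplicit false
set_option linter.all false
universe u v

noncomputable section

namespace Groth.Agent.NodeFam

open IsLocalRing

variable {A : Type u} {B : Type v} [CommRing A] [CommRing B] [Algebra A B]

/-- `I^n B`. -/
abbrev J (I : Ideal A) (B : Type v) [CommRing B] [Algebra A B] (n : ℕ) : Ideal B :=
  (I ^ n).map (algebraMap A B)

theorem J_mono (I : Ideal A) {m n : ℕ} (h : m ≤ n) : J I B n ≤ J I B m :=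
  Ideal.map_mono (Ideal.pow_le_pow_right h)

theorem J_mul (I : Ideal A) {m n : ℕ} {x y : B} (hx : x ∈ J I B m) (hy : y ∈ J I B n) :
    x * y ∈ J I B (m + n) := by
  rw [J, pow_add, Ideal.map_mul]
  exact Ideal.mul_mem_mul hx hy

theorem mem_J (I : Ideal A) {n : ℕ} {a : A} (h : a ∈ I ^ n) : algebraMap A B a ∈ J I B n :=
  Ideal.mem_map_of_mem _ h

/-- One approximation step. -/
theorem exists_step [IsLocalRing B] (I : Ideal A)
    (hres : ∀ b : B, ∃ a : A, b - algebraMap A B a ∈ maximalIdeal B) (U V : B)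
    (hgen : maximalIdeal B ≤ Ideal.span {U, V} ⊔ J I B 1) (n : ℕ) {z : B} (hz : z ∈ J I B n) :
    ∃ a p q, a ∈ I ^ n ∧ p ∈ J I B n ∧ q ∈ J I B n ∧
      z - (algebraMap A B a + U * p + V * q) ∈ J I B (n + 1) := by
  let M : Submodule A B :=
    { carrier := {z | ∃ a p q, a ∈ I ^ n ∧ p ∈ J I B n ∧ q ∈ J I B n ∧
        z - (algebraMap A B a + U * p + V * q) ∈ J I B (n + 1)}
      zero_mem' := ⟨0, 0, 0, zero_mem _, zero_mem _, zero_mem _, by simp⟩
      add_mem' := by
        rintro x y ⟨a, p, q, ha, hp, hq, hr⟩ ⟨a', p', q', ha', hp', hq', hr'⟩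
        refine ⟨a + a', p + p', q + q', add_mem ha ha', add_mem hp hp', add_mem hq hq', ?_⟩
        have := add_mem hr hr'
        rw [map_add]
        convert this using 1
        ring
      smul_mem' := by
        rintro c x ⟨a, p, q, ha, hp, hq, hr⟩
        refine ⟨c * a, algebraMap A B c * p, algebraMap A B c * q, Ideal.mul_mem_left _ _ ha,
          Ideal.mul_mem_left _ _ hp, Ideal.mul_mem_left _ _ hq, ?_⟩
        have := Ideal.mul_mem_left _ (algebraMap A B c) hr
        rw [map_mul, Algebra.smul_def]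
        convert this using 1
        ring }
  suffices ∀ z ∈ J I B n, z ∈ M from this z hz
  intro z hz
  induction hz using Submodule.span_induction with
  | mem x hx =>
    obtain ⟨c, hc, rfl⟩ := hx
    refine ⟨c, 0, 0, hc, zero_mem _, zero_mem _, by simp⟩
  | zero => exact zero_mem M
  | add x y _ _ hx hy => exact add_mem hx hy
  | smul b x hx ih =>
    obtain ⟨a₀, ha₀⟩ := hres b
    obtain ⟨w, hw, j, hj, hwj⟩ := Submodule.mem_sup.1 (hgen ha₀)
    obtain ⟨r, s, rfl⟩ := Ideal.mem_span_pair.1 hw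
    have h1 : algebraMap A B a₀ * x ∈ M := by
      rw [← Algebra.smul_def]; exact M.smul_mem a₀ ih
    have h2 : (r * U + s * V + j) * x ∈ M := by
      refine ⟨0, r * x, s * x, zero_mem _, Ideal.mul_mem_left _ _ hx, Ideal.mul_mem_left _ _ hx, ?_⟩
      have : j * x ∈ J I B (n + 1) := by
        rw [add_comm]; exact J_mul I hj hx
      rw [map_zero]
      convert this using 1
      ring
    have := add_mem h1 h2
    rw [smul_eq_mul]
    convert this using 1
    linear_combination -x * hwj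

theorem gen_congr [IsLocalRing B] (I : Ideal A) {u v U V : B}
    (hgen : maximalIdeal B ≤ Ideal.span {u, v} ⊔ J I B 1) (hU : U - u ∈ J I B 1)
    (hV : V - v ∈ J I B 1) : maximalIdeal B ≤ Ideal.span {U, V} ⊔ J I B 1 := by
  refine hgen.trans (sup_le (Ideal.span_le.2 ?_) le_sup_right)
  rintro x (rfl | rfl)
  · rw [show x = U + -(U - x) by ring]
    exact add_mem (Ideal.mem_sup_left (Ideal.subset_span (Or.inl rfl)))
      (Ideal.mem_sup_right (neg_mem hU))
  · rw [show x = V + -(V - x) by ring]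
    exact add_mem (Ideal.mem_sup_left (Ideal.subset_span (Or.inr rfl)))
      (Ideal.mem_sup_right (neg_mem hV))

/-- A correction step preserving conditions `P`, `Q`, `E` on `u`, `v`, `ε`. -/
def StepFor (I : Ideal A) (u v : B) (P Q : B → Prop) (E : A → Prop) : Prop :=
  ∀ (n : ℕ) (U V : B) (e : A), P U → Q V → E e → U - u ∈ J I B 1 → V - v ∈ J I B 1 →
    U * V - algebraMap A B e ∈ J I B (n + 1) →
    ∃ a p q, a ∈ I ^ (n + 1) ∧ p ∈ J I B (n + 1) ∧ q ∈ J I B (n + 1) ∧ P (U - q) ∧ Q (V - p) ∧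
      E (e + a) ∧ (U * V - algebraMap A B e) - (algebraMap A B a + U * p + V * q) ∈ J I B (n + 2)

theorem exists_seq (I : Ideal A) (u v : B) (huv : u * v ∈ J I B 1) (P Q : B → Prop) (E : A → Prop)
    (hu : P u) (hv : Q v) (hE : E 0) (hstep : StepFor I u v P Q E) :
    ∃ (us vs : ℕ → B) (ε : ℕ → A), us 0 = u ∧ vs 0 = v ∧ ∀ n, P (us n) ∧ Q (vs n) ∧ E (ε n) ∧
      us n - u ∈ J I B 1 ∧ vs n - v ∈ J I B 1 ∧ ε n ∈ I ∧
      us (n + 1) - us n ∈ J I B (n + 1) ∧ vs (n + 1) - vs n ∈ J I B (n + 1) ∧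
      ε (n + 1) - ε n ∈ I ^ (n + 1) ∧ us n * vs n - algebraMap A B (ε n) ∈ J I B (n + 1) := by
  classical
  let Inv : ℕ → B × B × A → Prop := fun n t => P t.1 ∧ Q t.2.1 ∧ E t.2.2 ∧ t.1 - u ∈ J I B 1 ∧
    t.2.1 - v ∈ J I B 1 ∧ t.2.2 ∈ I ∧ t.1 * t.2.1 - algebraMap A B t.2.2 ∈ J I B (n + 1)
  have hnext : ∀ n t, Inv n t → ∃ t', Inv (n + 1) t' ∧ t'.1 - t.1 ∈ J I B (n + 1) ∧
      t'.2.1 - t.2.1 ∈ J I B (n + 1) ∧ t'.2.2 - t.2.2 ∈ I ^ (n + 1) := by
    rintro n ⟨U, V, e⟩ ⟨hP, hQ, hE', hU, hV, he, hz⟩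
    dsimp only at hP hQ hE' hU hV he hz
    obtain ⟨a, p, q, ha, hp, hq, hP', hQ', hE'', hr⟩ := hstep n U V e hP hQ hE' hU hV hz
    refine ⟨(U - q, V - p, e + a), ⟨hP', hQ', hE'', ?_, ?_, ?_, ?_⟩, ?_, ?_, ?_⟩
    · rw [show U - q - u = (U - u) - q by ring]
      exact sub_mem hU (J_mono I (by omega) hq)
    · rw [show V - p - v = (V - v) - p by ring]
      exact sub_mem hV (J_mono I (by omega) hp)
    · exact add_mem he (Ideal.pow_le_self (by omega) ha)
    · have h2 : p * q ∈ J I B (n + 2) := J_mono I (by omega) (J_mul I hp hq)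
      show (U - q) * (V - p) - algebraMap A B (e + a) ∈ _
      rw [map_add]
      convert add_mem hr h2 using 1
      ring
    · show U - q - U ∈ _
      rw [sub_sub_cancel_left]; exact neg_mem hq
    · show V - p - V ∈ _
      rw [sub_sub_cancel_left]; exact neg_mem hp
    · show e + a - e ∈ _
      rwa [add_sub_cancel_left]
  choose f hf using hnext
  have h0 : Inv 0 (u, v, 0) := ⟨hu, hv, hE, by simp, by simp, zero_mem _, by simpa using huv⟩
  let s : (n : ℕ) → {t : B × B × A // Inv n t} := fun n =>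
    Nat.rec (motive := fun n => {t : B × B × A // Inv n t}) ⟨(u, v, 0), h0⟩
      (fun n t => ⟨f n t.1 t.2, (hf n t.1 t.2).1⟩) n
  refine ⟨fun n => (s n).1.1, fun n => (s n).1.2.1, fun n => (s n).1.2.2, rfl, rfl, fun n => ?_⟩
  obtain ⟨h1, h2, h3, h4, h5, h6, h7⟩ := (s n).2
  exact ⟨h1, h2, h3, h4, h5, h6, (hf n _ (s n).2).2.1, (hf n _ (s n).2).2.2.1,
    (hf n _ (s n).2).2.2.2, h7⟩

/-- The step without side conditions. -/
theorem stepFor_true [IsLocalRing B] (I : Ideal A) (u v : B)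
    (hres : ∀ b : B, ∃ a : A, b - algebraMap A B a ∈ maximalIdeal B)
    (hgen : maximalIdeal B ≤ Ideal.span {u, v} ⊔ J I B 1) :
    StepFor I u v (fun _ => True) (fun _ => True) (fun _ => True) := by
  intro n U V e _ _ _ hU hV hz
  obtain ⟨a, p, q, ha, hp, hq, hr⟩ := exists_step I hres U V (gen_congr I hgen hU hV) (n + 1) hz
  exact ⟨a, p, q, ha, hp, hq, trivial, trivial, trivial, hr⟩

theorem res_surjective [IsLocalRing A] [IsLocalRing B] [IsLocalHom (algebraMap A B)]
    (h : Function.Surjective (ResidueField.map (algebraMap A B))) (b : B) :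
    ∃ a : A, b - algebraMap A B a ∈ maximalIdeal B := by
  obtain ⟨x, hx⟩ := h (residue B b)
  obtain ⟨a, rfl⟩ := residue_surjective x
  refine ⟨a, ?_⟩
  rw [ResidueField.map_residue] at hx
  rw [← residue_eq_zero_iff, map_sub, hx, sub_self]

end Groth.Agent.NodeFam
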