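import Mathlib
import Groth.Agent.NodeFam.Seq
import Groth.Agent.ArtKit.PSRing

/-! Passing to the limit: a complete deformation of a node is a quotient of `R⟦x, y⟧/(xy - α)`. -/

set_option autoImplicit false
set_option linter.all false
universe u

noncomputable section

namespace Groth.Agent.NodeFam

open IsLocalRing

variable {R C : Type u} [CommRing R] [IsLocalRing R] [CommRing C] [IsLocalRing C]

theorem eq_zero_of_forall_mem [IsAdicComplete (maximalIdeal C) C] {x : C}
    (h : ∀ n, x ∈ maximalIdeal C ^ n) : x = 0 :=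
  IsHausdorff.haus' (I := maximalIdeal C) x fun n => by
    rw [SModEq.sub_mem, sub_zero, smul_eq_mul, Ideal.mul_top]; exact h n

theorem exists_lim [IsAdicComplete (maximalIdeal C) C] (s : ℕ → C)
    (h : ∀ n, s (n + 1) - s n ∈ maximalIdeal C ^ (n + 1)) :
    ∃ L : C, ∀ n, L - s n ∈ maximalIdeal C ^ n := by
  have hmn : ∀ {m n : ℕ}, m ≤ n → s m - s n ∈ maximalIdeal C ^ m := by
    intro m n hmn
    induction n, hmn using Nat.le_induction with
    | base => simp
    | succ n hn ih =>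
      have : s n - s (n + 1) ∈ maximalIdeal C ^ m := by
        rw [show s n - s (n + 1) = -(s (n + 1) - s n) by ring]
        exact neg_mem (Ideal.pow_le_pow_right (by omega) (h n))
      rw [show s m - s (n + 1) = (s m - s n) + (s n - s (n + 1)) by ring]
      exact add_mem ih this
  obtain ⟨L, hL⟩ := IsPrecomplete.prec' (I := maximalIdeal C) s fun {m n} hm => by
    rw [SModEq.sub_mem, smul_eq_mul, Ideal.mul_top]; exact hmn hm
  refine ⟨L, fun n => ?_⟩
  have := hL n
  rw [SModEq.sub_mem, smul_eq_mul, Ideal.mul_top] at this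
  rw [show L - s n = -(s n - L) by ring]
  exact neg_mem this

/-- An ideal of a Noetherian local ring is closed. -/
theorem mem_of_forall_mem_sup [IsNoetherianRing C] (K : Ideal C) {x : C}
    (h : ∀ n, x ∈ K ⊔ maximalIdeal C ^ n) : x ∈ K := by
  rw [← Ideal.Quotient.eq_zero_iff_mem]
  have hbot := Ideal.iInf_pow_smul_eq_bot_of_isLocalRing (M := C ⧸ K) (maximalIdeal C)
    (maximalIdeal.isMaximal C).ne_top
  rw [← Submodule.mem_bot C, ← hbot, Submodule.mem_iInf]
  intro n
  obtain ⟨a, ha, b, hb, rfl⟩ := Submodule.mem_sup.1 (h n)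
  rw [map_add, Ideal.Quotient.eq_zero_iff_mem.2 ha, zero_add,
    show Ideal.Quotient.mk K b = b • (1 : C ⧸ K) by rw [Algebra.smul_def, mul_one]; rfl]
  exact Submodule.smul_mem_smul hb Submodule.mem_top

variable [Algebra R C] [IsLocalHom (algebraMap R C)]

theorem map_max_le : (maximalIdeal R).map (algebraMap R C) ≤ maximalIdeal C :=
  ((local_hom_TFAE (algebraMap R C)).out 0 2).mp ‹_›

theorem J_le (n : ℕ) : J (maximalIdeal R) C n ≤ maximalIdeal C ^ n := by
  rw [J, Ideal.map_pow]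
  exact Ideal.pow_right_mono map_max_le n

/-- The parameters of a complete node. -/
theorem exists_params [IsAdicComplete (maximalIdeal R) R] [IsAdicComplete (maximalIdeal C) C]
    [IsNoetherianRing C] (u v : C)
    (huv : u * v ∈ J (maximalIdeal R) C 1) (P Q : C → Prop) (E : R → Prop)
    (hu : P u) (hv : Q v) (hE : E 0) (hstep : StepFor (maximalIdeal R) u v P Q E)
    (hPc : ∀ U, (∀ n, ∃ U', P U' ∧ U - U' ∈ maximalIdeal C ^ n) → P U)
    (hQc : ∀ U, (∀ n, ∃ U', Q U' ∧ U - U' ∈ maximalIdeal C ^ n) → Q U)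
    (hEc : ∀ e, (∀ n, ∃ e', E e' ∧ e - e' ∈ maximalIdeal R ^ n) → E e) :
    ∃ (U V : C) (α : R), P U ∧ Q V ∧ E α ∧ α ∈ maximalIdeal R ∧ U * V = algebraMap R C α ∧
      U - u ∈ J (maximalIdeal R) C 1 ∧ V - v ∈ J (maximalIdeal R) C 1 := by
  obtain ⟨us, vs, ε, -, -, h⟩ := exists_seq (maximalIdeal R) u v huv P Q E hu hv hE hstep
  obtain ⟨U, hU⟩ := exists_lim us fun n => J_le _ (h n).2.2.2.2.2.2.1
  obtain ⟨V, hV⟩ := exists_lim vs fun n => J_le _ (h n).2.2.2.2.2.2.2.1
  obtain ⟨α, hα⟩ := exists_lim ε fun n => (h n).2.2.2.2.2.2.2.2.1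
  refine ⟨U, V, α, hPc U fun n => ⟨_, (h n).1, hU n⟩, hQc V fun n => ⟨_, (h n).2.1, hV n⟩,
    hEc α fun n => ⟨_, (h n).2.2.1, hα n⟩, ?_, ?_, ?_, ?_⟩
  · rw [show α = (α - ε 1) + ε 1 by ring]
    exact add_mem (by simpa using hα 1) (h 1).2.2.2.2.2.1
  · refine sub_eq_zero.1 (eq_zero_of_forall_mem fun n => ?_)
    have e1 : us n * vs n - algebraMap R C (ε n) ∈ maximalIdeal C ^ n :=
      Ideal.pow_le_pow_right (Nat.le_succ n) (J_le _ (h n).2.2.2.2.2.2.2.2.2)
    have e2 : algebraMap R C (α - ε n) ∈ maximalIdeal C ^ n := J_le n (mem_J _ (hα n))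
    rw [show U * V - algebraMap R C α = (U - us n) * V + us n * (V - vs n) +
      (us n * vs n - algebraMap R C (ε n)) - algebraMap R C (α - ε n) by rw [map_sub]; ring]
    exact sub_mem (add_mem (add_mem (Ideal.mul_mem_right _ _ (hU n)) (Ideal.mul_mem_left _ _ (hV n)))
      e1) e2
  · refine mem_of_forall_mem_sup _ fun n => ?_
    rw [show U - u = (us n - u) + (U - us n) by ring]
    exact Submodule.add_mem_sup (h n).2.2.2.1 (hU n)
  · refine mem_of_forall_mem_sup _ fun n => ?_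
    rw [show V - v = (vs n - v) + (V - vs n) by ring]
    exact Submodule.add_mem_sup (h n).2.2.2.2.1 (hV n)

open MvPowerSeries

/-- The surjection from the standard node. -/
theorem exists_surjection [IsAdicComplete (maximalIdeal R) R] [IsAdicComplete (maximalIdeal C) C]
    (U V : C) (α : R)
    (hU : U ∈ maximalIdeal C) (hV : V ∈ maximalIdeal C)
    (hres : ∀ c : C, ∃ a : R, c - algebraMap R C a ∈ maximalIdeal C)
    (hgen : maximalIdeal C ≤ Ideal.span {U, V} ⊔ J (maximalIdeal R) C 1)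
    (h : U * V = algebraMap R C α) :
    ∃ ψ : (MvPowerSeries (Fin 2) R ⧸
        Ideal.span {(X 0 * X 1 - MvPowerSeries.C α : MvPowerSeries (Fin 2) R)}) →ₐ[R] C,
      Function.Surjective ψ ∧ ψ (Ideal.Quotient.mk _ (X 0)) = U ∧
        ψ (Ideal.Quotient.mk _ (X 1)) = V := by
  obtain ⟨φ, hφ⟩ := ArtKit.exists_evalAdic (R := R) (maximalIdeal C) (![U, V] : Fin 2 → C)
    (fun i => by fin_cases i; exacts [hU, hV])
  have hC : ∀ a : R, φ (MvPowerSeries.C a) = algebraMap R C a := fun a => φ.commutes a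
  have hker : ∀ x ∈ Ideal.span {(X 0 * X 1 - MvPowerSeries.C α : MvPowerSeries (Fin 2) R)}, φ x = 0 := by
    intro x hx
    obtain ⟨c, rfl⟩ := Ideal.mem_span_singleton'.1 hx
    rw [map_mul, map_sub, map_mul, hC, hφ 0, hφ 1]
    simp [h]
  refine ⟨Ideal.Quotient.liftₐ _ φ hker, ?_, hφ 0, hφ 1⟩
  suffices hs : Function.Surjective φ from fun c => by
    obtain ⟨p, hp⟩ := hs c
    exact ⟨Ideal.Quotient.mk _ p, hp⟩
  haveI : IsAdicComplete (maximalIdeal (MvPowerSeries (Fin 2) R)) (MvPowerSeries (Fin 2) R) :=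
    ArtKit.isAdicComplete_mvPowerSeries
  let M : Ideal C := (maximalIdeal (MvPowerSeries (Fin 2) R)).map φ.toRingHom
  have hX : ∀ i : Fin 2, (X i : MvPowerSeries (Fin 2) R) ∈ maximalIdeal _ := fun i => by
    rw [ArtKit.mem_maximalIdeal_iff_constantCoeff, constantCoeff_X]; exact zero_mem _
  have hM1 : maximalIdeal C ≤ M := by
    refine hgen.trans (sup_le (Ideal.span_le.2 ?_) ?_)
    · rintro x (hx | hx)
      · rw [hx, show U = φ (X 0) from (hφ 0).symm]; exact Ideal.mem_map_of_mem _ (hX 0)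
      · rw [Set.mem_singleton_iff.1 hx, show V = φ (X 1) from (hφ 1).symm]
        exact Ideal.mem_map_of_mem _ (hX 1)
    · rw [J, pow_one]
      refine Ideal.map_le_iff_le_comap.2 fun a ha => ?_
      rw [Ideal.mem_comap, ← hC]
      refine Ideal.mem_map_of_mem _ ?_
      rw [ArtKit.mem_maximalIdeal_iff_constantCoeff, constantCoeff_C]
      exact ha
  have hM2 : M ≤ maximalIdeal C := by
    refine Ideal.map_le_iff_le_comap.2 fun p hp => ?_
    rw [ArtKit.mem_maximalIdeal_iff_constantCoeff] at hp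
    have h0 := ArtPow.sub_C_constantCoeff_mem p
    have hle : Ideal.span (Set.range (X : Fin 2 → MvPowerSeries (Fin 2) R)) ≤
        (maximalIdeal C).comap φ.toRingHom := Ideal.span_le.2 (by
      rintro _ ⟨i, rfl⟩
      show φ (X i) ∈ maximalIdeal C
      rw [hφ]; fin_cases i; exacts [hU, hV])
    have h1 : φ (p - MvPowerSeries.C (constantCoeff p)) ∈ maximalIdeal C := hle h0
    rw [map_sub, hC] at h1
    show φ p ∈ maximalIdeal C
    simpa using add_mem h1 (map_max_le (Ideal.mem_map_of_mem _ hp))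
  haveI : IsHausdorff M C := ⟨fun x hx => IsHausdorff.haus' (I := maximalIdeal C) x fun n => by
    have := hx n
    rw [SModEq.sub_mem, sub_zero, smul_eq_mul, Ideal.mul_top] at this ⊢
    exact Ideal.pow_right_mono hM2 n this⟩
  refine surjective_of_mk_map_comp_surjective (f := φ.toRingHom)
    (I := maximalIdeal (MvPowerSeries (Fin 2) R)) fun c => ?_
  obtain ⟨c, rfl⟩ := Ideal.Quotient.mk_surjective c
  obtain ⟨a, ha⟩ := hres c
  refine ⟨MvPowerSeries.C a, ?_⟩
  show Ideal.Quotient.mk M (φ _) = Ideal.Quotient.mk M c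
  rw [hC, Ideal.Quotient.mk_eq_mk_iff_sub_mem]
  rw [show algebraMap R C a - c = -(c - algebraMap R C a) by ring]
  exact neg_mem (hM1 ha)

end Groth.Agent.NodeFam
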