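import Mathlib
import Groth.Agent.NodeFam.Limit

/-! Flat deformations of a node are standard nodes. -/

set_option autoImplicit false
set_option linter.all false
universe u

noncomputable section

namespace Groth.Agent.NodeFam

open IsLocalRing MvPowerSeries

theorem injective_of_surjective_endo {N : Type u} [CommRing N] [IsNoetherianRing N] (f : N →+* N)
    (hf : Function.Surjective f) : Function.Injective f := by
  let f' : ℕ → (N →+* N) := fun n => Nat.rec (RingHom.id N) (fun _ g => f.comp g) n
  have hs : ∀ n, Function.Surjective (f' n) := by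
    intro n
    induction n with
    | zero => exact fun x => ⟨x, rfl⟩
    | succ n ih => exact hf.comp ih
  let K : ℕ →o Ideal N := ⟨fun n => RingHom.ker (f' n), monotone_nat_of_le_succ fun n x hx => by
    show f (f' n x) = 0
    rw [RingHom.mem_ker.1 hx, map_zero]⟩
  obtain ⟨n, hn⟩ := monotone_stabilizes_iff_noetherian.2 ‹IsNoetherianRing N› K
  rw [injective_iff_map_eq_zero]
  intro x hx
  obtain ⟨y, rfl⟩ := hs n x
  have : y ∈ K (n + 1) := hx
  rw [← hn (n + 1) (Nat.le_succ n)] at this
  exact this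

/-- A flat quotient whose reduction is bijective is the whole ring. -/
theorem injective_of_flat {A Q C : Type u} [CommRing A] [IsNoetherianRing A] [CommRing Q]
    [IsNoetherianRing Q] [CommRing C] [Algebra A Q] [Algebra A C] [Module.Flat A C] (ψ : Q →ₐ[A] C)
    (hψ : Function.Surjective ψ) (I : Ideal A)
    (hI : I.map (algebraMap A Q) ≤ Ideal.jacobson ⊥)
    (h : ∀ q, ψ q ∈ I.map (algebraMap A C) → q ∈ I.map (algebraMap A Q)) :
    Function.Injective ψ := by
  have key : RingHom.ker ψ ≤ I.map (algebraMap A Q) • RingHom.ker ψ := by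
    intro x hx
    obtain ⟨n, a, ha⟩ := Submodule.fg_iff_exists_fin_generating_family.1 (IsNoetherian.noetherian I)
    have hx' : x ∈ I.map (algebraMap A Q) := h x (by rw [RingHom.mem_ker.1 hx]; exact zero_mem _)
    rw [← ha, show (Submodule.span A (Set.range a) : Ideal A) = Ideal.span (Set.range a) from rfl,
      Ideal.map_span, ← Set.range_comp] at hx'
    obtain ⟨c, hc⟩ := Ideal.mem_span_range_iff_exists_fun.1 hx'
    have hrel : ∑ i, a i • ψ (c i) = 0 := by
      rw [← RingHom.mem_ker.1 hx, ← hc, map_sum]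
      refine Finset.sum_congr rfl fun i _ => ?_
      rw [map_mul, Function.comp_apply, AlgHom.commutes, Algebra.smul_def, mul_comm]
    obtain ⟨m, r, d, hd, hr⟩ := Module.Flat.isTrivialRelation_of_sum_smul_eq_zero
      (f := a) (x := fun i => ψ (c i)) hrel
    choose e he using fun j => hψ (d j)
    have hq : ∀ i, c i - ∑ j, r i j • e j ∈ RingHom.ker ψ := fun i => by
      rw [RingHom.mem_ker, map_sub, map_sum, sub_eq_zero]
      exact (hd i).trans (Finset.sum_congr rfl fun j _ => by rw [map_smul, he])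
    have hx2 : x = ∑ i, algebraMap A Q (a i) * (c i - ∑ j, r i j • e j) := by
      simp only [mul_sub, Finset.sum_sub_distrib, Finset.mul_sum]
      rw [Finset.sum_comm (f := fun i j => algebraMap A Q (a i) * r i j • e j)]
      have h0 : ∀ j, ∑ i, algebraMap A Q (a i) * r i j • e j = 0 := fun j => by
        calc _ = algebraMap A Q (∑ i, a i * r i j) * e j := by
              rw [map_sum, Finset.sum_mul]
              exact Finset.sum_congr rfl fun i _ => by rw [Algebra.smul_def, map_mul, mul_assoc]
          _ = _ := by rw [hr j, map_zero, zero_mul]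
      rw [Finset.sum_eq_zero fun j _ => h0 j, sub_zero, ← hc]
      exact Finset.sum_congr rfl fun i _ => mul_comm _ _
    rw [hx2]
    refine Submodule.sum_mem _ fun i _ => Submodule.smul_mem_smul (Ideal.mem_map_of_mem _ ?_) (hq i)
    rw [← ha]
    exact Submodule.subset_span ⟨i, rfl⟩
  have := Submodule.eq_bot_of_le_smul_of_le_jacobson_bot (I.map (algebraMap A Q)) (RingHom.ker ψ)
    (IsNoetherian.noetherian _) key hI
  exact (RingHom.injective_iff_ker_eq_bot _).2 this

variable {A : Type u} [CommRing A] [IsLocalRing A]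

theorem mem_map_C_of_coeff {R : Type u} [CommRing R] (I : Ideal R) (hI : I.FG)
    {f : MvPowerSeries (Fin 2) R} (h : ∀ d, coeff d f ∈ I) :
    f ∈ I.map (MvPowerSeries.C (σ := Fin 2) (R := R)) := by
  obtain ⟨n, a, ha⟩ := Submodule.fg_iff_exists_fin_generating_family.1 hI
  have h' : ∀ d, ∃ c : Fin n → R, ∑ i, c i * a i = coeff d f := fun d => by
    have := h d
    rw [← ha] at this
    exact Ideal.mem_span_range_iff_exists_fun.1 this
  choose c hc using h'
  let g : Fin n → MvPowerSeries (Fin 2) R := fun i d => c d i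
  have : f = ∑ i, MvPowerSeries.C (a i) * g i := by
    ext d
    rw [map_sum, ← hc d]
    refine Finset.sum_congr rfl fun i _ => ?_
    rw [coeff_C_mul, mul_comm]
    rfl
  rw [this]
  refine Ideal.sum_mem _ fun i _ => Ideal.mul_mem_right _ _ (Ideal.mem_map_of_mem _ ?_)
  rw [← ha]
  exact Submodule.subset_span ⟨i, rfl⟩

/-- The standard node over a field maps onto the closed fibre of a standard node. -/
theorem exists_fibre_surjection [IsNoetherianRing A] {R : Type u} [CommRing R] [IsLocalRing R]
    [IsNoetherianRing R] [Algebra A R] (hRm : (maximalIdeal A).map (algebraMap A R) = maximalIdeal R)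
    (hres : ∀ c : R, ∃ a : A, c - algebraMap A R a ∈ maximalIdeal R) (α : R) (hα : α ∈ maximalIdeal R) :
    ∃ g : (MvPowerSeries (Fin 2) (ResidueField A) ⧸
        Ideal.span {(X 0 * X 1 : MvPowerSeries (Fin 2) (ResidueField A))}) →+*
      (MvPowerSeries (Fin 2) R ⧸ Ideal.span {(X 0 * X 1 - MvPowerSeries.C α : MvPowerSeries (Fin 2) R)}) ⧸
        (maximalIdeal A).map (algebraMap A
          (MvPowerSeries (Fin 2) R ⧸ Ideal.span {(X 0 * X 1 - MvPowerSeries.C α : MvPowerSeries (Fin 2) R)})),
      Function.Surjective g := by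
  let Q := MvPowerSeries (Fin 2) R ⧸ Ideal.span {(X 0 * X 1 - MvPowerSeries.C α : MvPowerSeries (Fin 2) R)}
  let M : Ideal Q := (maximalIdeal A).map (algebraMap A Q)
  let q : MvPowerSeries (Fin 2) R →+* Q ⧸ M := (Ideal.Quotient.mk M).comp (Ideal.Quotient.mk _)
  have hqC : ∀ r ∈ maximalIdeal R, q (MvPowerSeries.C r) = 0 := by
    intro r hr
    have : maximalIdeal R ≤ RingHom.ker (q.comp (MvPowerSeries.C (σ := Fin 2) (R := R))) := by
      rw [← hRm, Ideal.map_le_iff_le_comap]
      intro a ha
      rw [Ideal.mem_comap, RingHom.mem_ker, RingHom.comp_apply]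
      rw [← MvPowerSeries.algebraMap_apply]
      show Ideal.Quotient.mk M (algebraMap A Q a) = 0
      exact Ideal.Quotient.eq_zero_iff_mem.2 (Ideal.mem_map_of_mem (algebraMap A Q) ha)
    exact this hr
  have hqm : ∀ f : MvPowerSeries (Fin 2) R, (∀ d, coeff d f ∈ maximalIdeal R) → q f = 0 := by
    intro f hf
    have hle : (maximalIdeal R).map (MvPowerSeries.C (σ := Fin 2) (R := R)) ≤ RingHom.ker q :=
      Ideal.map_le_iff_le_comap.2 fun r hr => hqC r hr
    exact hle (mem_map_C_of_coeff _ (IsNoetherian.noetherian _) hf)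
  have hA : ∀ a ∈ maximalIdeal A, algebraMap A R a ∈ maximalIdeal R := fun a ha => by
    rw [← hRm]; exact Ideal.mem_map_of_mem _ ha
  let lift : MvPowerSeries (Fin 2) A →+* Q ⧸ M := q.comp (MvPowerSeries.map (algebraMap A R))
  have hls : Function.Surjective lift := by
    intro y
    obtain ⟨y, rfl⟩ := Ideal.Quotient.mk_surjective y
    obtain ⟨f, rfl⟩ := Ideal.Quotient.mk_surjective y
    choose a ha using fun d => hres (coeff d f)
    let F : MvPowerSeries (Fin 2) A := a
    refine ⟨F, ?_⟩
    show q (MvPowerSeries.map (algebraMap A R) F) = q f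
    rw [← sub_eq_zero, ← map_sub]
    refine hqm _ fun d => ?_
    rw [map_sub, coeff_map, show coeff d F = a d from rfl, ← neg_sub]
    exact neg_mem (ha d)
  let ρ : MvPowerSeries (Fin 2) A →+* MvPowerSeries (Fin 2) (ResidueField A) :=
    MvPowerSeries.map (residue A)
  have hρ : Function.Surjective ρ := by
    intro f
    choose a ha using fun d => residue_surjective (coeff d f)
    exact ⟨a, MvPowerSeries.ext fun d => by rw [coeff_map]; exact ha d⟩
  let g₀ := ρ.liftOfSurjective hρ ⟨lift, fun f hf => by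
    refine hqm _ fun d => ?_
    rw [coeff_map]
    refine hA _ ?_
    rw [← residue_eq_zero_iff, ← coeff_map, show MvPowerSeries.map (residue A) f = 0 from hf, map_zero]⟩
  have hg₀ : ∀ f, g₀ (ρ f) = lift f := fun f => RingHom.liftOfRightInverse_comp_apply _ _ _ _ _
  have hker : ∀ x ∈ Ideal.span {(X 0 * X 1 : MvPowerSeries (Fin 2) (ResidueField A))}, g₀ x = 0 := by
    intro x hx
    obtain ⟨c, rfl⟩ := Ideal.mem_span_singleton'.1 hx
    rw [map_mul, show (X 0 * X 1 : MvPowerSeries (Fin 2) (ResidueField A)) = ρ (X 0 * X 1) by simp [ρ],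
      hg₀]
    have h0 : q (X 0 * X 1) = 0 := by
      have h1 : q (X 0 * X 1 - MvPowerSeries.C α) = 0 := by
        show Ideal.Quotient.mk M (Ideal.Quotient.mk _ _) = 0
        rw [Ideal.Quotient.eq_zero_iff_mem.2 (Ideal.mem_span_singleton_self _)]
        exact map_zero _
      rw [map_sub, hqC α hα, sub_zero] at h1
      exact h1
    show _ * q (MvPowerSeries.map (algebraMap A R) (X 0 * X 1)) = 0
    rw [map_mul (MvPowerSeries.map (algebraMap A R)), map_X, map_X]
    exact mul_eq_zero_of_right (g₀ c) h0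
  refine ⟨Ideal.Quotient.lift _ g₀ hker, fun y => ?_⟩
  obtain ⟨f, rfl⟩ := hls y
  exact ⟨Ideal.Quotient.mk _ (ρ f), hg₀ f⟩

theorem le_jacobson {A : Type u} [CommRing A] [IsLocalRing A] {R : Type u} [CommRing R] [IsLocalRing R]
    [Algebra A R] [IsLocalHom (algebraMap A R)] (α : R) (hα : α ∈ maximalIdeal R) :
    (maximalIdeal A).map (algebraMap A
      (MvPowerSeries (Fin 2) R ⧸ Ideal.span {(X 0 * X 1 - MvPowerSeries.C α : MvPowerSeries (Fin 2) R)})) ≤
      Ideal.jacobson ⊥ := by
  let P := MvPowerSeries (Fin 2) R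
  have hne : Ideal.span {(X 0 * X 1 - MvPowerSeries.C α : P)} ≠ ⊤ := by
    rw [Ne, Ideal.span_singleton_eq_top, MvPowerSeries.isUnit_iff_constantCoeff]
    simp only [map_sub, map_mul, constantCoeff_X, mul_zero, zero_sub, constantCoeff_C, IsUnit.neg_iff]
    exact hα
  haveI : Nontrivial (P ⧸ Ideal.span {(X 0 * X 1 - MvPowerSeries.C α : P)}) :=
    Ideal.Quotient.nontrivial_iff.2 hne
  haveI : IsLocalRing (P ⧸ Ideal.span {(X 0 * X 1 - MvPowerSeries.C α : P)}) :=
    IsLocalRing.of_surjective' (Ideal.Quotient.mk _) Ideal.Quotient.mk_surjective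
  rw [IsLocalRing.jacobson_eq_maximalIdeal ⊥ bot_ne_top]
  refine Ideal.map_le_iff_le_comap.2 fun a ha => ?_
  rw [Ideal.mem_comap, ← IsLocalRing.map_maximalIdeal_of_surjective (Ideal.Quotient.mk _)
    Ideal.Quotient.mk_surjective]
  rw [show algebraMap A (P ⧸ Ideal.span {(X 0 * X 1 - MvPowerSeries.C α : P)}) a =
      Ideal.Quotient.mk _ (MvPowerSeries.C (algebraMap A R a)) by
    rw [← MvPowerSeries.algebraMap_apply]; rfl]
  refine Ideal.mem_map_of_mem _ ?_
  rw [ArtKit.mem_maximalIdeal_iff_constantCoeff, constantCoeff_C]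
  exact map_max_le (Ideal.mem_map_of_mem _ ha)

/-- Injectivity of the surjection from the standard node. -/
theorem injective_psi [IsNoetherianRing A] {R C : Type u} [CommRing R] [IsLocalRing R]
    [IsNoetherianRing R] [CommRing C] [Algebra A R] [IsLocalHom (algebraMap A R)] [Algebra A C]
    [Module.Flat A C] (hRm : (maximalIdeal A).map (algebraMap A R) = maximalIdeal R)
    (hres : ∀ c : R, ∃ a : A, c - algebraMap A R a ∈ maximalIdeal R) (α : R) (hα : α ∈ maximalIdeal R)
    (ψ : (MvPowerSeries (Fin 2) R ⧸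
      Ideal.span {(X 0 * X 1 - MvPowerSeries.C α : MvPowerSeries (Fin 2) R)}) →ₐ[A] C)
    (hψ : Function.Surjective ψ)
    (e : (C ⧸ (maximalIdeal A).map (algebraMap A C)) ≃+*
      (MvPowerSeries (Fin 2) (ResidueField A) ⧸
        Ideal.span {(X 0 * X 1 : MvPowerSeries (Fin 2) (ResidueField A))})) :
    Function.Injective ψ := by
  obtain ⟨g, hg⟩ := exists_fibre_surjection hRm hres α hα
  let Q := MvPowerSeries (Fin 2) R ⧸ Ideal.span {(X 0 * X 1 - MvPowerSeries.C α : MvPowerSeries (Fin 2) R)}
  have hle : (maximalIdeal A).map (algebraMap A Q) ≤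
      ((maximalIdeal A).map (algebraMap A C)).comap ψ.toRingHom := by
    refine Ideal.map_le_iff_le_comap.2 fun a ha => ?_
    show ψ (algebraMap A Q a) ∈ (maximalIdeal A).map (algebraMap A C)
    rw [AlgHom.commutes]
    exact Ideal.mem_map_of_mem _ ha
  let ψb := Ideal.quotientMap _ ψ.toRingHom hle
  have hs : Function.Surjective (e.toRingHom.comp (ψb.comp g)) :=
    e.surjective.comp ((Ideal.quotientMap_surjective (H := hle) hψ).comp hg)
  have hinj := injective_of_surjective_endo _ hs
  refine injective_of_flat ψ hψ _ (le_jacobson α hα) fun q hq => ?_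
  obtain ⟨z, hz⟩ := hg (Ideal.Quotient.mk _ q)
  rw [← Ideal.Quotient.eq_zero_iff_mem, ← hz]
  have : z = 0 := hinj (by
    show e (ψb (g z)) = e (ψb (g 0))
    rw [hz, map_zero, map_zero, map_zero]
    show e (Ideal.Quotient.mk _ (ψ q)) = 0
    rw [Ideal.Quotient.eq_zero_iff_mem.2 hq, map_zero])
  rw [this, map_zero]

end Groth.Agent.NodeFam
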