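import Mathlib
import Groth.Agent.NodeFam.Limit
import Groth.Agent.AdicBasics.Dimension

/-! A node-like deformation, completed. -/

set_option autoImplicit false
set_option linter.all false
universe u

noncomputable section

namespace Groth.Agent.NodeFam

open IsLocalRing

variable (A B : Type u) [CommRing A] [IsLocalRing A] [IsNoetherianRing A] [CommRing B]
  [IsLocalRing B] [IsNoetherianRing B] [Algebra A B] [IsLocalHom (algebraMap A B)]

local notation "Ah" => AdicCompletion (maximalIdeal A) A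
local notation "Bh" => AdicCompletion (maximalIdeal B) B

instance isNoetherianRing_Bh : IsNoetherianRing Bh := AdicBasics.isNoetherianRing_completion B

theorem pow_le_comap (n : ℕ) :
    maximalIdeal A ^ n ≤ RingHom.ker ((Ideal.Quotient.mk (maximalIdeal Bh ^ n)).comp
      ((algebraMap B Bh).comp (algebraMap A B))) := fun a ha => by
  rw [RingHom.mem_ker, RingHom.comp_apply, Ideal.Quotient.eq_zero_iff_mem,
    AdicCompletion.maximalIdeal_eq_map, ← Ideal.map_pow, RingHom.comp_apply]
  exact Ideal.mem_map_of_mem _ (J_le (R := A) (C := B) n (mem_J _ ha))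

/-- The map on completions. -/
theorem exists_complMap : ∃ f : Ah →+* Bh,
    (∀ a : A, f (algebraMap A Ah a) = algebraMap B Bh (algebraMap A B a)) ∧ IsLocalHom f := by
  let g : ∀ n, Ah →+* Bh ⧸ maximalIdeal Bh ^ n := fun n =>
    (Ideal.Quotient.lift _ ((Ideal.Quotient.mk (maximalIdeal Bh ^ n)).comp
      ((algebraMap B Bh).comp (algebraMap A B))) (fun a ha => pow_le_comap A B n ha)).comp
      (AdicCompletion.evalₐ (maximalIdeal A) n).toRingHom
  have hg : ∀ {m n : ℕ} (hle : m ≤ n),
      (Ideal.Quotient.factorPow (maximalIdeal Bh) hle).comp (g n) = g m := by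
    intro m n hle
    refine RingHom.ext fun x => ?_
    obtain ⟨t, rfl⟩ := AdicCompletion.mk_surjective (maximalIdeal A) A x
    have ht : t.val n - t.val m ∈ maximalIdeal A ^ m := by
      have h := (t.2 hle).symm
      rw [SModEq.sub_mem, smul_eq_mul, Ideal.mul_top] at h
      exact h
    simp only [g, RingHom.comp_apply, AlgHom.toRingHom_eq_coe, RingHom.coe_coe, AdicCompletion.evalₐ_mk,
      Ideal.Quotient.lift_mk]
    show Ideal.Quotient.factor (Ideal.pow_le_pow_right hle) (Ideal.Quotient.mk _ _) = _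
    refine (Ideal.Quotient.mk_eq_mk_iff_sub_mem _ _).2 ?_
    simp only [RingHom.comp_apply, ← map_sub]
    rw [AdicCompletion.maximalIdeal_eq_map, ← Ideal.map_pow]
    exact Ideal.mem_map_of_mem _ (J_le (R := A) (C := B) m (mem_J _ ht))
  have e : ∀ a : A, IsAdicComplete.liftRingHom _ g hg (algebraMap A Ah a) =
      algebraMap B Bh (algebraMap A B a) := by
    intro a
    refine sub_eq_zero.1 (eq_zero_of_forall_mem fun n => ?_)
    rw [← Ideal.Quotient.eq_zero_iff_mem, map_sub, IsAdicComplete.mk_liftRingHom, sub_eq_zero]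
    simp only [g, RingHom.comp_apply, AlgHom.toRingHom_eq_coe, RingHom.coe_coe, AlgHom.commutes,
      Ideal.Quotient.algebraMap_eq]
    rfl
  refine ⟨IsAdicComplete.liftRingHom _ g hg, e, ((local_hom_TFAE _).out 2 0).mp ?_⟩
  refine Ideal.map_le_iff_le_comap.2 ((AdicCompletion.maximalIdeal_eq_map (R := A)).trans_le
    (Ideal.map_le_iff_le_comap.2 fun a ha => ?_))
  rw [Ideal.mem_comap, Ideal.mem_comap, e, AdicCompletion.maximalIdeal_eq_map]
  exact Ideal.mem_map_of_mem _ (map_max_le (Ideal.mem_map_of_mem _ ha))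

open MvPowerSeries in
theorem main (hres : Function.Bijective (ResidueField.map (algebraMap A B))) (u v : B)
    (hu : u ∈ maximalIdeal B) (hv : v ∈ maximalIdeal B)
    (huv : u * v ∈ (maximalIdeal A).map (algebraMap A B))
    (hgen : maximalIdeal B = Ideal.span {u, v} ⊔ (maximalIdeal A).map (algebraMap A B)) :
    ∃ (α : Ah) (_ : α ∈ (maximalIdeal A).map (algebraMap A Ah))
      (ψ : (MvPowerSeries (Fin 2) Ah ⧸
        Ideal.span {(MvPowerSeries.X 0 * MvPowerSeries.X 1 - MvPowerSeries.C α : MvPowerSeries (Fin 2) Ah)}) →ₐ[A] Bh),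
      Function.Surjective ψ ∧
      ψ (Ideal.Quotient.mk _ (MvPowerSeries.X 0)) - algebraMap B Bh u ∈
        (maximalIdeal A).map (algebraMap A Bh) ∧
      ψ (Ideal.Quotient.mk _ (MvPowerSeries.X 1)) - algebraMap B Bh v ∈
        (maximalIdeal A).map (algebraMap A Bh) := by
  obtain ⟨f, hf, hloc⟩ := exists_complMap A B
  letI : Algebra Ah Bh := f.toAlgebra
  haveI : IsLocalHom (algebraMap Ah Bh) := hloc
  haveI : IsScalarTower A Ah Bh := IsScalarTower.of_algebraMap_eq fun a => by
    rw [IsScalarTower.algebraMap_apply A B Bh]; exact (hf a).symm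
  have hJ : (maximalIdeal A).map (algebraMap A Bh) = J (maximalIdeal Ah) Bh 1 := by
    rw [J, pow_one, AdicCompletion.maximalIdeal_eq_map, Ideal.map_map,
      ← IsScalarTower.algebraMap_eq]
  have hJB : ((maximalIdeal A).map (algebraMap A B)).map (algebraMap B Bh) =
      J (maximalIdeal Ah) Bh 1 := by
    rw [← hJ, Ideal.map_map, ← IsScalarTower.algebraMap_eq]
  have hgen' : maximalIdeal Bh ≤
      Ideal.span {algebraMap B Bh u, algebraMap B Bh v} ⊔ J (maximalIdeal Ah) Bh 1 := by
    refine (AdicCompletion.maximalIdeal_eq_map (R := B)).trans_le ((Ideal.map_mono hgen.le).trans ?_)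
    rw [Ideal.map_sup, Ideal.map_span, Set.image_pair, hJB]
  have hres' : ∀ c : Bh, ∃ a : Ah, c - algebraMap Ah Bh a ∈ maximalIdeal Bh := by
    intro c
    obtain ⟨b, hb⟩ := res_surjective (A := B) (B := Bh)
      (AdicCompletion.residueField_map_bijective B).2 c
    obtain ⟨a, ha⟩ := res_surjective hres.2 b
    refine ⟨algebraMap A Ah a, ?_⟩
    have h2 : algebraMap B Bh (b - algebraMap A B a) ∈ maximalIdeal Bh := by
      rw [AdicCompletion.maximalIdeal_eq_map]; exact Ideal.mem_map_of_mem _ ha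
    rw [← IsScalarTower.algebraMap_apply, IsScalarTower.algebraMap_apply A B Bh]
    rw [map_sub] at h2
    simpa using add_mem hb h2
  obtain ⟨U, V, α, -, -, -, hα, hUV, hUu, hVv⟩ := exists_params (R := Ah) (C := Bh)
    (algebraMap B Bh u) (algebraMap B Bh v)
    (by rw [← map_mul, ← hJB]; exact Ideal.mem_map_of_mem _ huv)
    (fun _ => True) (fun _ => True) (fun _ => True) trivial trivial trivial
    (stepFor_true _ _ _ hres' hgen') (fun _ _ => trivial) (fun _ _ => trivial) (fun _ _ => trivial)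
  have hmem : ∀ {W : Bh} {w : B}, w ∈ maximalIdeal B → W - algebraMap B Bh w ∈ J (maximalIdeal Ah) Bh 1 →
      W ∈ maximalIdeal Bh := by
    intro W w hw hW
    have h1 : algebraMap B Bh w ∈ maximalIdeal Bh := by
      rw [AdicCompletion.maximalIdeal_eq_map]; exact Ideal.mem_map_of_mem _ hw
    have h2 := J_le (R := Ah) 1 hW
    rw [pow_one] at h2
    simpa using add_mem h2 h1
  obtain ⟨ψ, hψ, hψ0, hψ1⟩ := exists_surjection U V α (hmem hu hUu) (hmem hv hVv) hres'
    (gen_congr _ hgen' hUu hVv) hUV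
  refine ⟨α, ?_, ψ.restrictScalars A, hψ, ?_, ?_⟩
  · rwa [← AdicCompletion.maximalIdeal_eq_map]
  · rw [hJ]; show ψ _ - _ ∈ _; rw [hψ0]; exact hUu
  · rw [hJ]; show ψ _ - _ ∈ _; rw [hψ1]; exact hVv

end Groth.Agent.NodeFam
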