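import Mathlib
import Groth.Agent.FibCrit.Stalk
import Groth.Agent.GeomProp.BCStalk

/-! The map from a local ring to the local ring of the fibre, over the residue field. -/

set_option autoImplicit false
set_option linter.all false
universe u

noncomputable section

namespace Groth.Agent.NodeFam

open CategoryTheory AlgebraicGeometry IsLocalRing

attribute [local instance] Curv2.stalkAlgebra

theorem exists_fibre_map {T S : Scheme.{u}} (f : T ⟶ S) (t : T) :
    letI : (f.fiber (f t)).Over (Spec (CommRingCat.of (S.residueField (f t)))) :=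
      ⟨f.fiberToSpecResidueField (f t)⟩
    ∃ φ : T.presheaf.stalk t →+* (f.fiber (f t)).presheaf.stalk (f.asFiber t),
      Function.Surjective φ ∧
      RingHom.ker φ = (maximalIdeal (S.presheaf.stalk (f t))).map (f.stalkMap t).hom ∧
      ∀ r : S.presheaf.stalk (f t), φ ((f.stalkMap t).hom r) =
        algebraMap (S.residueField (f t)) ((f.fiber (f t)).presheaf.stalk (f.asFiber t)) (S.residue (f t) r) := by
  letI : (f.fiber (f t)).Over (Spec (CommRingCat.of (S.residueField (f t)))) :=
    ⟨f.fiberToSpecResidueField (f t)⟩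
  have key : ∀ (x : T), f.fiberι (f t) (f.asFiber t) = x →
      ∃ φ : T.presheaf.stalk x ⟶ (f.fiber (f t)).presheaf.stalk (f.asFiber t),
        Function.Surjective φ.hom ∧
        RingHom.ker φ.hom = (maximalIdeal (S.presheaf.stalk (f x))).map (f.stalkMap x).hom ∧
        Spec.map φ ≫ T.fromSpecStalk x = (f.fiber (f t)).fromSpecStalk (f.asFiber t) ≫ f.fiberι (f t) := by
    rintro x rfl
    obtain ⟨h1, h2⟩ := FibCrit.fiberι_stalkMap f (f t) (f.asFiber t)
    exact ⟨(f.fiberι (f t)).stalkMap (f.asFiber t), h1, h2, Scheme.SpecMap_stalkMap_fromSpecStalk _⟩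
  obtain ⟨φ, h1, h2, h3⟩ := key t (f.fiberι_asFiber t)
  refine ⟨φ.hom, h1, h2, fun r => ?_⟩
  have h4 : f.stalkMap t ≫ φ = S.residue (f t) ≫ CommRingCat.ofHom
      (algebraMap (S.residueField (f t)) ((f.fiber (f t)).presheaf.stalk (f.asFiber t))) := by
    apply Spec.map_injective
    rw [← cancel_mono (S.fromSpecStalk (f t)), Spec.map_comp, Spec.map_comp, Category.assoc, Category.assoc,
      Scheme.SpecMap_stalkMap_fromSpecStalk, reassoc_of% h3, Scheme.Hom.fiber_fac]
    refine (Category.assoc _ _ _).symm.trans (congrArg (· ≫ S.fromSpecResidueField (f t)) ?_)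
    exact GeomProp.fromSpecStalk_over (S.residueField (f t)) (f.fiber (f t)) (f.asFiber t)
  exact congrArg (fun g : S.presheaf.stalk (f t) ⟶ _ => g.hom r) h4

end Groth.Agent.NodeFam
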