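import Mathlib
import Groth.Agent.NodeFam.Completion
import Groth.Agent.NodeFam.Iso
import Groth.Agent.FlatDepth.Quot

/-! A flat node-like deformation completes to the standard node. -/

set_option autoImplicit false
set_option linter.all false
universe u

noncomputable section

namespace Groth.Agent.NodeFam

open IsLocalRing

variable (A B : Type u) [CommRing A] [IsLocalRing A] [IsNoetherianRing A] [CommRing B]
  [IsLocalRing B] [IsNoetherianRing B] [Algebra A B] [IsLocalHom (algebraMap A B)]

local notation "Ah" => AdicCompletion (maximalIdeal A) A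
local notation "Bh" => AdicCompletion (maximalIdeal B) B
local notation "kA" => ResidueField A

theorem completion_fibre {F : Type u} [CommRing F] [IsLocalRing F] [IsNoetherianRing F]
    (φ : B →+* F) (hφ : Function.Surjective φ) (hker : RingHom.ker φ = (maximalIdeal A).map (algebraMap A B))
    (J' : Ideal F) (hJ : J' = maximalIdeal F) {N : Type u} [CommRing N]
    (e : AdicCompletion J' F ≃+* N) :
    Nonempty ((Bh ⧸ (maximalIdeal A).map (algebraMap A Bh)) ≃+* N) := by
  subst hJ
  obtain ⟨ψ, hψ, -, hk⟩ := FlatDepth.exists_cpl_quotient φ hφ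
  have h : RingHom.ker ψ = (maximalIdeal A).map (algebraMap A Bh) := by
    rw [hk, hker, Ideal.map_map, ← IsScalarTower.algebraMap_eq]
  exact ⟨((Ideal.quotEquivOfEq h.symm).trans (RingHom.quotientKerEquivOfSurjective hψ)).trans e⟩

theorem main_flat [Module.Flat A B] (hres : Function.Bijective (ResidueField.map (algebraMap A B)))
    (u v : B) (hu : u ∈ maximalIdeal B) (hv : v ∈ maximalIdeal B)
    (huv : u * v ∈ (maximalIdeal A).map (algebraMap A B))
    (hgen : maximalIdeal B = Ideal.span {u, v} ⊔ (maximalIdeal A).map (algebraMap A B))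
    (hfib : ∃ e : AdicCompletion ((maximalIdeal B).map (Ideal.Quotient.mk ((maximalIdeal A).map (algebraMap A B))))
        (B ⧸ (maximalIdeal A).map (algebraMap A B)) ≃+* (MvPowerSeries (Fin 2) kA ⧸
          Ideal.span {(MvPowerSeries.X 0 * MvPowerSeries.X 1 : MvPowerSeries (Fin 2) kA)}),
      ∀ a : A, e (algebraMap (B ⧸ (maximalIdeal A).map (algebraMap A B)) _ (Ideal.Quotient.mk _ (algebraMap A B a)))
        = Ideal.Quotient.mk _ (MvPowerSeries.C (residue A a))) :
    ∃ (α : Ah) (_ : α ∈ (maximalIdeal A).map (algebraMap A Ah))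
      (ψ : (MvPowerSeries (Fin 2) Ah ⧸
        Ideal.span {(MvPowerSeries.X 0 * MvPowerSeries.X 1 - MvPowerSeries.C α : MvPowerSeries (Fin 2) Ah)}) ≃ₐ[A] Bh),
      ψ (Ideal.Quotient.mk _ (MvPowerSeries.X 0)) - algebraMap B Bh u ∈
        (maximalIdeal A).map (algebraMap A Bh) ∧
      ψ (Ideal.Quotient.mk _ (MvPowerSeries.X 1)) - algebraMap B Bh v ∈
        (maximalIdeal A).map (algebraMap A Bh) := by
  obtain ⟨α, hα, ψ, hψ, h0, h1⟩ := main A B hres u v hu hv huv hgen
  obtain ⟨e, -⟩ := hfib
  let F := B ⧸ (maximalIdeal A).map (algebraMap A B)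
  haveI : Nontrivial F := Ideal.Quotient.nontrivial_iff.2
    (ne_top_of_le_ne_top (maximalIdeal.isMaximal B).ne_top map_max_le)
  haveI : IsLocalRing F := IsLocalRing.of_surjective' (Ideal.Quotient.mk _) Ideal.Quotient.mk_surjective
  obtain ⟨e'⟩ := completion_fibre A B (F := F) (Ideal.Quotient.mk _) Ideal.Quotient.mk_surjective
    Ideal.mk_ker _ (IsLocalRing.map_maximalIdeal_of_surjective _ Ideal.Quotient.mk_surjective) e
  haveI : IsNoetherianRing Ah := AdicBasics.isNoetherianRing_completion A
  haveI : Module.Flat A Bh := Module.Flat.trans A B Bh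
  have hRm : (maximalIdeal A).map (algebraMap A Ah) = maximalIdeal Ah :=
    (AdicCompletion.maximalIdeal_eq_map (R := A)).symm
  have hinj := injective_psi (R := Ah) (C := Bh) hRm
    (res_surjective (AdicCompletion.residueField_map_bijective A).2) α
    ((AdicCompletion.maximalIdeal_eq_map (R := A)).symm ▸ hα) ψ hψ e'
  exact ⟨α, hα, AlgEquiv.ofBijective ψ ⟨hinj, hψ⟩, h0, h1⟩

end Groth.Agent.NodeFam
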