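import Mathlib
import Groth.Agent.NodeFam.Iso
import Groth.Agent.ArNF.Branches
import Groth.Agent.PlaneCurve.Formal

/-! Involutions of deformations of nodes preserving the branches. -/

set_option autoImplicit false
set_option linter.all false
universe u

noncomputable section

namespace Groth.Agent.NodeFam

theorem hr1 : 1 + 1 = 2 * 1 := rfl

open IsLocalRing

variable {k : Type u} [Field k]

local notation "N" => ArSing.ring k 1

abbrev bp : N →ₐ[k] PowerSeries k := ArNF.pp hr1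
abbrev bm : N →ₐ[k] PowerSeries k := ArNF.pm hr1

abbrev vN : N := ArSing.y k 1 - ArSing.x k 1
abbrev uN : N := ArSing.x k 1 + ArSing.y k 1

theorem br_const (a : N) :
    PowerSeries.constantCoeff (bp a) = PowerSeries.constantCoeff (bm a) := by
  have := ArNF.sub_dvd hr1 a
  rw [pow_one, PowerSeries.X_dvd_iff, map_sub, sub_eq_zero] at this
  exact this

/-- An element vanishing on a branch is a multiple of the equation of that branch. -/
theorem ker_branch (h2 : (2 : k) ≠ 0) {a : N} :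
    (bp a = 0 → a ∈ Ideal.span {vN}) ∧ (bm a = 0 → a ∈ Ideal.span {uN}) := by
  have h2C : PowerSeries.C (2⁻¹ : k) * (2 : PowerSeries k) = 1 := by
    rw [show (2 : PowerSeries k) = PowerSeries.C (2 : k) from (map_ofNat PowerSeries.C 2).symm,
      ← map_mul, inv_mul_cancel₀ h2, map_one]
  constructor <;> intro h
  · obtain ⟨g, hg⟩ := PowerSeries.X_dvd_iff.2 (show PowerSeries.constantCoeff (bm a) = 0 by
      rw [← br_const, h, map_zero])
    obtain ⟨c, hc₁, hc₂⟩ := ArNF.exists_pair hr1 h2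
      (a := PowerSeries.C (PowerSeries.constantCoeff (-(PowerSeries.C (2⁻¹ : k) * g))))
      (b := -(PowerSeries.C (2⁻¹ : k) * g))
      (by rw [pow_one, PowerSeries.X_dvd_iff, map_sub, PowerSeries.constantCoeff_C, sub_self])
    refine Ideal.mem_span_singleton'.2 ⟨c, ArNF.br_injective hr1 h2 ?_ ?_⟩
    · show bp (c * vN) = bp a
      rw [h, map_mul, map_sub]; simp
    · show bm (c * vN) = bm a
      rw [map_mul, show bm c = _ from hc₂, map_sub, ArNF.br_x, ArNF.br_y, hg, map_neg, map_one]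
      linear_combination (PowerSeries.X * g) * h2C
  · obtain ⟨g, hg⟩ := PowerSeries.X_dvd_iff.2 (show PowerSeries.constantCoeff (bp a) = 0 by
      rw [br_const, h, map_zero])
    obtain ⟨c, hc₁, hc₂⟩ := ArNF.exists_pair hr1 h2
      (a := PowerSeries.C (2⁻¹ : k) * g)
      (b := PowerSeries.C (PowerSeries.constantCoeff (PowerSeries.C (2⁻¹ : k) * g)))
      (by rw [pow_one, PowerSeries.X_dvd_iff, map_sub, PowerSeries.constantCoeff_C, sub_self])
    refine Ideal.mem_span_singleton'.2 ⟨c, ArNF.br_injective hr1 h2 ?_ ?_⟩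
    · show bp (c * uN) = bp a
      rw [map_mul, show bp c = _ from hc₁, map_add, ArNF.br_x, ArNF.br_y, hg, map_one]
      linear_combination (PowerSeries.X * g) * h2C
    · show bm (c * uN) = bm a
      rw [h, map_mul, map_add]; simp

/-- An eigencoordinate of an involution of a branch. -/
theorem exists_eigen (h2 : (2 : k) ≠ 0) (w : PowerSeries k) (hw : PowerSeries.constantCoeff w = 0)
    (hi : ArNF.sb w hw w = PowerSeries.X) :
    ∃ (ξ : k) (p : PowerSeries k), ξ * ξ = 1 ∧ PowerSeries.constantCoeff p = 0 ∧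
      PowerSeries.coeff 1 p ≠ 0 ∧ ArNF.sb w hw p = ξ • p := by
  rcases ArNF.involution_coeff_one w hw hi with h | h
  · exact ⟨1, PowerSeries.X, one_mul 1, PowerSeries.constantCoeff_X,
      by rw [PowerSeries.coeff_one_X]; exact one_ne_zero,
      by rw [one_smul, ArNF.sb_X, ArNF.involution_eq_X w hw h2 hi h]⟩
  · refine ⟨-1, PowerSeries.C (2⁻¹ : k) * (PowerSeries.X - w), by norm_num, by simp [hw], ?_, ?_⟩
    · rw [PowerSeries.coeff_C_mul, map_sub, PowerSeries.coeff_one_X, h, sub_neg_eq_add,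
        one_add_one_eq_two]
      exact mul_ne_zero (inv_ne_zero h2) h2
    · rw [neg_one_smul, map_mul, map_sub, ArNF.sb_X, hi,
        show ArNF.sb w hw (PowerSeries.C (2⁻¹ : k)) = PowerSeries.C (2⁻¹ : k) from (ArNF.sb w hw).commutes _]
      ring

/-- Normal form of an involution of the node fixing the branches. -/
theorem exists_eigen_node (h2 : (2 : k) ≠ 0) (σ : N ≃ₐ[k] N) (hσ : ∀ a, σ (σ a) = a)
    (hp : ∀ a, bp a = 0 → bp (σ a) = 0) (hm : ∀ a, bm a = 0 → bm (σ a) = 0) :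
    ∃ (ξ₁ ξ₂ : k) (u v : N), ξ₁ * ξ₁ = 1 ∧ ξ₂ * ξ₂ = 1 ∧ u * v = 0 ∧ σ u = ξ₁ • u ∧ σ v = ξ₂ • v ∧
      PowerSeries.constantCoeff (bp u) = 0 ∧ PowerSeries.constantCoeff (bp v) = 0 ∧
      ∀ a : N, PowerSeries.constantCoeff (bp a) = 0 → a ∈ Ideal.span {u, v} := by
  obtain ⟨e₁, w₁, hw₁, hee₁, he₁, hc₁, h₁⟩ := ArNF.exists_factor hr1
    (bp.comp σ.toAlgHom) (fun f => ⟨σ.symm (ArSing.xMap k 1 f), by
      show bp (σ (σ.symm _)) = f
      rw [AlgEquiv.apply_symm_apply, ArNF.br_xMap]⟩)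
  obtain ⟨e₂, w₂, hw₂, hee₂, he₂, hc₂, h₂⟩ := ArNF.exists_factor hr1
    (bm.comp σ.toAlgHom) (fun f => ⟨σ.symm (ArSing.xMap k 1 f), by
      show bm (σ (σ.symm _)) = f
      rw [AlgEquiv.apply_symm_apply, ArNF.br_xMap]⟩)
  have k₁ : ∀ a, bp (σ a) = ArNF.sb w₁ hw₁ (ArNF.br hr1 e₁ hee₁ a) :=
    fun a => AlgHom.congr_fun h₁ a
  have k₂ : ∀ a, bm (σ a) = ArNF.sb w₂ hw₂ (ArNF.br hr1 e₂ hee₂ a) :=
    fun a => AlgHom.congr_fun h₂ a
  have h2X : (PowerSeries.X + PowerSeries.X : PowerSeries k) ≠ 0 := fun h => h2 (by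
    simpa [one_add_one_eq_two] using congrArg (PowerSeries.coeff 1) h)
  obtain rfl : e₁ = 1 := by
    refine he₁.resolve_right ?_
    rintro rfl
    have := hp vN (by simp)
    rw [k₁] at this
    have h0 := (ArNF.sb_bijective w₁ hw₁ hc₁).1 (this.trans (map_zero _).symm)
    rw [map_sub, ArNF.br_x, ArNF.br_y, map_neg, map_one] at h0
    exact h2X (by linear_combination -h0)
  obtain rfl : e₂ = -1 := by
    refine he₂.resolve_left ?_
    rintro rfl
    have := hm uN (by simp)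
    rw [k₂] at this
    have h0 := (ArNF.sb_bijective w₂ hw₂ hc₂).1 (this.trans (map_zero _).symm)
    rw [map_add, ArNF.br_x, ArNF.br_y, map_one] at h0
    exact h2X (by linear_combination h0)
  have i₁ : ArNF.sb w₁ hw₁ w₁ = PowerSeries.X := by
    have hx : bp (σ (ArSing.x k 1)) = w₁ := by rw [k₁, ArNF.br_x, ArNF.sb_X]
    have := k₁ (σ (ArSing.x k 1))
    rwa [hσ, show ArNF.br _ 1 hee₁ (σ (ArSing.x k 1)) = w₁ from hx, ArNF.br_x, eq_comm] at this
  have i₂ : ArNF.sb w₂ hw₂ w₂ = PowerSeries.X := by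
    have hx : bm (σ (ArSing.x k 1)) = w₂ := by rw [k₂, ArNF.br_x, ArNF.sb_X]
    have := k₂ (σ (ArSing.x k 1))
    rwa [hσ, show ArNF.br _ (-1) hee₂ (σ (ArSing.x k 1)) = w₂ from hx, ArNF.br_x, eq_comm] at this
  obtain ⟨ξ₁, p₁, hξ₁, p₁0, p₁1, hp₁⟩ := exists_eigen h2 w₁ hw₁ i₁
  obtain ⟨ξ₂, p₂, hξ₂, p₂0, p₂1, hp₂⟩ := exists_eigen h2 w₂ hw₂ i₂
  obtain ⟨u, hu₁, hu₂⟩ := ArNF.exists_pair hr1 h2 (a := p₁) (b := (0 : PowerSeries k))
    (by rw [pow_one, PowerSeries.X_dvd_iff, sub_zero, p₁0])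
  obtain ⟨v, hv₁, hv₂⟩ := ArNF.exists_pair hr1 h2 (a := (0 : PowerSeries k)) (b := p₂)
    (by rw [pow_one, PowerSeries.X_dvd_iff, zero_sub, map_neg, p₂0, neg_zero])
  have inj : ∀ {a b : N}, bp a = bp b → bm a = bm b → a = b :=
    fun h₁ h₂ => ArNF.br_injective hr1 h2 h₁ h₂
  refine ⟨ξ₁, ξ₂, u, v, hξ₁, hξ₂, inj (by simp [hu₁, hv₁]) (by simp [hu₂, hv₂]), inj ?_ ?_, inj ?_ ?_,
    by rw [show bp u = p₁ from hu₁, p₁0], by rw [show bp v = 0 from hv₁, map_zero], ?_⟩
  · rw [k₁, show ArNF.br _ 1 hee₁ u = p₁ from hu₁, map_smul bp, hu₁, hp₁]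
  · rw [k₂, show ArNF.br _ (-1) hee₂ u = 0 from hu₂, map_zero, map_smul bm, hu₂, smul_zero]
  · rw [k₁, show ArNF.br _ 1 hee₁ v = 0 from hv₁, map_zero, map_smul bp, hv₁, smul_zero]
  · rw [k₂, show ArNF.br _ (-1) hee₂ v = p₂ from hv₂, map_smul bm, hv₂, hp₂]
  · intro a ha
    obtain ⟨f, hf⟩ : p₁ ∣ bp a := by
      obtain ⟨g, hg⟩ := PowerSeries.X_dvd_iff.2 ha
      obtain ⟨c, hc⟩ := PowerSeries.X_dvd_iff.2 p₁0
      have hcu : IsUnit c := PowerSeries.isUnit_iff_constantCoeff.2 (isUnit_iff_ne_zero.2 (by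
        simpa [hc] using p₁1))
      rw [hg, hc]; exact mul_dvd_mul_left _ (hcu.dvd)
    obtain ⟨g, hg⟩ : p₂ ∣ bm a := by
      obtain ⟨g, hg⟩ := PowerSeries.X_dvd_iff.2 (show PowerSeries.constantCoeff (bm a) = 0 by
        rw [← br_const, ha])
      obtain ⟨c, hc⟩ := PowerSeries.X_dvd_iff.2 p₂0
      have hcu : IsUnit c := PowerSeries.isUnit_iff_constantCoeff.2 (isUnit_iff_ne_zero.2 (by
        simpa [hc] using p₂1))
      rw [hg, hc]; exact mul_dvd_mul_left _ (hcu.dvd)
    obtain ⟨F, hF⟩ := ArNF.br_surjective hr1 (1 : k) (by norm_num) f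
    obtain ⟨G, hG⟩ := ArNF.br_surjective hr1 (-1 : k) (by norm_num) g
    refine Ideal.mem_span_pair.2 ⟨F, G, inj ?_ ?_⟩
    · rw [map_add, map_mul, map_mul, hu₁, hv₁, show bp F = f from hF, mul_zero, add_zero, hf, mul_comm]
    · rw [map_add, map_mul, map_mul, hu₂, hv₂, show bm G = g from hG, mul_zero, zero_add, hg, mul_comm]

open MvPowerSeries in
theorem main_invol [IsAlgClosed k] {R S : Type u} (h2 : (2 : k) ≠ 0) [CommRing R] [IsLocalRing R]
    [IsNoetherianRing R] [IsAdicComplete (maximalIdeal R) R] [CommRing S] [IsLocalRing S]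
    [IsNoetherianRing S] [IsAdicComplete (maximalIdeal S) S] [Algebra k R] [Algebra R S] [Algebra k S]
    [IsScalarTower k R S] [IsLocalHom (algebraMap R S)] [Module.Flat R S]
    (e : (S ⧸ Ideal.map (algebraMap R S) (maximalIdeal R)) ≃ₐ[k] N)
    (σ : S ≃ₐ[R] S) (hσ : ∀ s, σ (σ s) = s)
    (hbr : ∀ P ∈ (Ideal.map (algebraMap R S) (maximalIdeal R)).minimalPrimes, Ideal.map (σ : S →+* S) P = P) :
    ∃ (t : R) (ξ₁ ξ₂ : k), ξ₁ ^ 2 = 1 ∧ ξ₂ ^ 2 = 1 ∧ (ξ₁ = -ξ₂ → t = 0) ∧
      ∃ f : S ≃ₐ[R] (MvPowerSeries (Fin 2) R ⧸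
          Ideal.span {(X 0 * X 1 - MvPowerSeries.C t : MvPowerSeries (Fin 2) R)}),
        f (σ (f.symm (Ideal.Quotient.mk _ (X 0)))) = algebraMap k R ξ₂ • Ideal.Quotient.mk _ (X 0) ∧
        f (σ (f.symm (Ideal.Quotient.mk _ (X 1)))) = algebraMap k R ξ₁ • Ideal.Quotient.mk _ (X 1) := by
  set I : Ideal S := Ideal.map (algebraMap R S) (maximalIdeal R) with hI
  let mk : S →+* S ⧸ I := Ideal.Quotient.mk I
  let π : S →+* N := (e : (S ⧸ I) →+* N).comp mk
  have hπs : Function.Surjective π := e.surjective.comp Ideal.Quotient.mk_surjective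
  have hπI : ∀ s, π s = 0 ↔ s ∈ I := fun s => by
    show e (mk s) = 0 ↔ _
    rw [map_eq_zero_iff e e.injective]
    exact Ideal.Quotient.eq_zero_iff_mem
  have hπk : ∀ c : k, π (algebraMap k S c) = algebraMap k N c := fun c => by
    show e (mk (algebraMap k S c)) = _
    exact e.commutes c
  have hI1 : I = J (maximalIdeal R) S 1 := by rw [hI, J, pow_one]
  have hσI : ∀ n, ∀ s ∈ J (maximalIdeal R) S n, σ s ∈ J (maximalIdeal R) S n := by
    intro n
    have : J (maximalIdeal R) S n ≤ (J (maximalIdeal R) S n).comap σ.toAlgHom.toRingHom := by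
      refine Ideal.map_le_iff_le_comap.2 fun a ha => ?_
      show σ (algebraMap R S a) ∈ J (maximalIdeal R) S n
      rw [AlgEquiv.commutes]; exact mem_J _ ha
    exact fun s hs => this hs
  have hσI' : ∀ s ∈ I, σ s ∈ I := by rw [hI1]; exact hσI 1
  -- the involution of the fibre
  let σb : (S ⧸ I) →+* (S ⧸ I) := Ideal.quotientMap I (σ : S →+* S) fun s hs => hσI' s hs
  let τ₀ : N →ₐ[k] N :=
    { toRingHom := (e : (S ⧸ I) →+* N).comp (σb.comp (e.symm : N →+* (S ⧸ I)))
      commutes' := fun c => by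
        show e (σb (e.symm (algebraMap k N c))) = _
        rw [AlgEquiv.commutes]
        show e (mk (σ (algebraMap k S c))) = _
        rw [IsScalarTower.algebraMap_apply k R S, AlgEquiv.commutes, ← IsScalarTower.algebraMap_apply]
        exact hπk c }
  have hτ₀ : ∀ s, τ₀ (π s) = π (σ s) := fun s => by
    show e (σb (e.symm (e (mk s)))) = _
    rw [AlgEquiv.symm_apply_apply]
    rfl
  have hτinv : ∀ a, τ₀ (τ₀ a) = a := fun a => by
    obtain ⟨s, rfl⟩ := hπs a
    rw [hτ₀, hτ₀, hσ]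
  let τ : N ≃ₐ[k] N := AlgEquiv.ofAlgHom τ₀ τ₀ (AlgHom.ext hτinv) (AlgHom.ext hτinv)
  have hbranch : ∀ (f : N →ₐ[k] PowerSeries k) (w w' : N), f w' ≠ 0 → w * w' = 0 →
      (∀ a, f a = 0 → a ∈ Ideal.span {w}) → ∀ a, f a = 0 → f (τ a) = 0 := by
    intro f w w' hw' hww hk a ha
    let P : Ideal S := RingHom.ker ((f : N →+* PowerSeries k).comp π)
    have hP : P ∈ I.minimalPrimes := by
      refine ⟨⟨RingHom.ker_isPrime _, fun s hs => ?_⟩, fun Q hQ hle => ?_⟩
      · show f (π s) = 0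
        rw [(hπI s).2 hs, map_zero]
      · intro s hs
        obtain ⟨W, rfl⟩ := hπs w
        obtain ⟨W', rfl⟩ := hπs w'
        have hW : W ∈ Q := (hQ.1.mem_or_mem (hQ.2 ((hπI _).1 (by rw [map_mul, hww])))).resolve_right
          fun h => hw' (hle h)
        obtain ⟨c, hc⟩ := Ideal.mem_span_singleton'.1 (hk (π s) hs)
        obtain ⟨c, rfl⟩ := hπs c
        rw [← map_mul, ← sub_eq_zero, ← map_sub, hπI] at hc
        have := sub_mem (Q.mul_mem_left c hW) (hQ.2 hc)
        simpa using this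
    obtain ⟨s, rfl⟩ := hπs a
    have : σ s ∈ P := by
      rw [← hbr P hP]; exact Ideal.mem_map_of_mem _ ha
    show f (τ₀ (π s)) = 0
    rw [hτ₀]; exact this
  have hne : ∀ a : PowerSeries k, PowerSeries.coeff 1 a = 2 → a ≠ 0 := fun a ha h => h2 (by
    rw [← ha, h, map_zero])
  obtain ⟨ξ₁, ξ₂, zu, zv, hξ₁, hξ₂, huv, hτu, hτv, hu0, hv0, hmax⟩ := exists_eigen_node h2 τ hτinv
    (hbranch bp vN uN (hne _ (by simp [one_add_one_eq_two]))
      (ArNF.br_injective hr1 h2 (by simp) (by simp)) fun a => (ker_branch h2).1)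
    (hbranch bm uN vN (fun h => hne (PowerSeries.X + PowerSeries.X) (by simp [one_add_one_eq_two]) (by
        simp only [map_sub, ArNF.br_x, ArNF.br_y, map_neg, map_one] at h
        linear_combination -h))
      (ArNF.br_injective hr1 h2 (by simp) (by simp)) fun a => (ker_branch h2).2)
  -- residue fields
  have hconst : ∀ s : S, PowerSeries.constantCoeff (bp (π s)) = 0 ↔ s ∈ maximalIdeal S := by
    intro s
    have hunit : IsUnit (π s) → IsUnit s := fun h => by
      have h' : IsUnit (mk s) := by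
        have := h.map e.symm
        rwa [show e.symm (π s) = mk s from e.symm_apply_apply _] at this
      obtain ⟨c, hc⟩ := isUnit_iff_exists_inv.1 h'
      obtain ⟨c, rfl⟩ := Ideal.Quotient.mk_surjective c
      rw [← map_mul, ← map_one mk, Ideal.Quotient.mk_eq_mk_iff_sub_mem] at hc
      by_contra hs
      have h1 := map_max_le hc
      exact (maximalIdeal.isMaximal S).ne_top ((Ideal.eq_top_iff_one _).2 (by
        simpa using sub_mem ((maximalIdeal S).mul_mem_right c hs) h1))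
    constructor
    · intro h hs
      exact (PowerSeries.isUnit_iff_constantCoeff.1 ((hs.map π).map bp)).ne_zero h
    · intro hs
      by_contra h
      refine hs (hunit ?_)
      obtain ⟨x, hx⟩ : IsUnit (PowerSeries.constantCoeff (bp (π s))) := isUnit_iff_ne_zero.2 h
      obtain ⟨f, g, hfg⟩ := ArNF.exists_decomp 1 (π s)
      have hf : IsUnit f := by
        rw [PowerSeries.isUnit_iff_constantCoeff, isUnit_iff_ne_zero]
        intro h0
        refine h ?_
        rw [hfg, ArNF.br_decomp]; simp [h0]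
      have hP : IsUnit (f * f - g * g * PowerSeries.X ^ 2) := by
        rw [PowerSeries.isUnit_iff_constantCoeff]
        simpa using PowerSeries.isUnit_iff_constantCoeff.1 hf
      refine isUnit_of_dvd_unit ⟨ArSing.xMap k 1 f - ArSing.xMap k 1 g * ArSing.y k 1, ?_⟩
        (hP.map (ArSing.xMap k 1))
      rw [hfg, map_sub, map_mul, map_mul, map_mul, map_pow, ArNF.xMap_X, ← ArNF.y_sq (k := k) 1]
      ring
  have hkres : ∀ s : S, ∃ c : k, s - algebraMap k S c ∈ maximalIdeal S := fun s =>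
    ⟨PowerSeries.constantCoeff (bp (π s)), (hconst _).1 (by
      rw [map_sub, hπk, map_sub, AlgHom.commutes]
      simp [PowerSeries.algebraMap_apply])⟩
  have hres : ∀ s : S, ∃ a : R, s - algebraMap R S a ∈ maximalIdeal S := fun s => by
    obtain ⟨c, hc⟩ := hkres s
    exact ⟨algebraMap k R c, by rwa [← IsScalarTower.algebraMap_apply]⟩
  have hresR : Function.Bijective ((residue R).comp (algebraMap k R)) := by
    refine ⟨RingHom.injective _, fun z => ?_⟩
    obtain ⟨a, rfl⟩ := residue_surjective z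
    obtain ⟨c, hc⟩ := hkres (algebraMap R S a)
    refine ⟨c, ?_⟩
    rw [RingHom.comp_apply, ← sub_eq_zero, ← map_sub, residue_eq_zero_iff]
    intro hu
    refine hc ?_
    rw [IsScalarTower.algebraMap_apply k R S, ← map_sub, ← neg_sub, map_neg]
    exact (hu.map (algebraMap R S)).neg
  -- eigenlifts
  have hhalf : algebraMap k S 2⁻¹ * 2 = 1 := by
    rw [← map_ofNat (algebraMap k S) 2, ← map_mul, inv_mul_cancel₀ h2, map_one]
  have hσk : ∀ c : k, σ (algebraMap k S c) = algebraMap k S c := fun c => by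
    rw [IsScalarTower.algebraMap_apply k R S, AlgEquiv.commutes]
  have hlift : ∀ (ξ : k) (z : N), ξ * ξ = 1 → τ z = ξ • z →
      ∃ U : S, π U = z ∧ σ U = algebraMap k S ξ * U := by
    intro ξ z hξ hz
    obtain ⟨U, hU⟩ := hπs z
    refine ⟨algebraMap k S 2⁻¹ * (U + algebraMap k S ξ * σ U), ?_, ?_⟩
    · have hσU : π (σ U) = algebraMap k N ξ * z := by
        rw [← hτ₀, hU]
        show τ z = _
        rw [hz, Algebra.algebraMap_eq_smul_one, smul_one_mul]
      rw [map_mul, map_add, map_mul, hπk, hπk, hU, hσU, ← mul_assoc, ← map_mul, hξ, map_one, one_mul]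
      have : algebraMap k N 2⁻¹ * 2 = 1 := by
        rw [← map_ofNat (algebraMap k N) 2, ← map_mul, inv_mul_cancel₀ h2, map_one]
      linear_combination z * this
    · have hξS : algebraMap k S ξ * algebraMap k S ξ = 1 := by rw [← map_mul, hξ, map_one]
      rw [map_mul, map_add, map_mul, hσk, hσk, hσ]
      linear_combination (-(algebraMap k S 2⁻¹) * σ U) * hξS
  obtain ⟨U₀, hU₀, hσU₀⟩ := hlift ξ₁ zu hξ₁ hτu
  obtain ⟨V₀, hV₀, hσV₀⟩ := hlift ξ₂ zv hξ₂ hτv
  have hgen : maximalIdeal S ≤ Ideal.span {U₀, V₀} ⊔ J (maximalIdeal R) S 1 := by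
    intro s hs
    obtain ⟨F, G, hFG⟩ := Ideal.mem_span_pair.1 (hmax _ ((hconst s).2 hs))
    obtain ⟨F, rfl⟩ := hπs F
    obtain ⟨G, rfl⟩ := hπs G
    have : s - (F * U₀ + G * V₀) ∈ I := (hπI _).1 (by rw [map_sub, map_add, map_mul, map_mul, hU₀, hV₀, hFG, sub_self])
    rw [show s = (F * U₀ + G * V₀) + (s - (F * U₀ + G * V₀)) by ring, ← hI1]
    exact Submodule.add_mem_sup (Ideal.mem_span_pair.2 ⟨F, G, rfl⟩) this
  set c₁ := algebraMap k R ξ₁ with hc₁
  set c₂ := algebraMap k R ξ₂ with hc₂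
  have hs₁ : c₁ * c₁ = 1 := by rw [hc₁, ← map_mul, hξ₁, map_one]
  have hs₂ : c₂ * c₂ = 1 := by rw [hc₂, ← map_mul, hξ₂, map_one]
  set h : R := algebraMap k R 2⁻¹ with hh
  have hh2 : h * 2 = 1 := by rw [hh, ← map_ofNat (algebraMap k R) 2, ← map_mul, inv_mul_cancel₀ h2, map_one]
  let P : S → Prop := fun U => σ U = c₁ • U
  let Q : S → Prop := fun V => σ V = c₂ • V
  let E : R → Prop := fun t => c₁ * c₂ * t = t
  have hstep : StepFor (maximalIdeal R) U₀ V₀ P Q E := by
    intro n U V t hPU hQV hEt hU hV hz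
    obtain ⟨a, p, q, ha, hp, hq, hr⟩ := exists_step (maximalIdeal R) hres U V
      (gen_congr _ hgen hU hV) (n + 1) hz
    set H := algebraMap R S h
    set C₁ := algebraMap R S c₁
    set C₂ := algebraMap R S c₂
    have eU : σ U = C₁ * U := by rw [show σ U = c₁ • U from hPU, Algebra.smul_def]
    have eV : σ V = C₂ * V := by rw [show σ V = c₂ • V from hQV, Algebra.smul_def]
    have es₁ : C₁ * C₁ = 1 := by rw [← map_mul, hs₁, map_one]
    have es₂ : C₂ * C₂ = 1 := by rw [← map_mul, hs₂, map_one]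
    have et : C₁ * C₂ * algebraMap R S t = algebraMap R S t := by
      rw [← map_mul, ← map_mul, show c₁ * c₂ * t = t from hEt]
    have eH : H * 2 = 1 := by rw [← map_ofNat (algebraMap R S) 2, ← map_mul, hh2, map_one]
    refine ⟨h * (1 + c₁ * c₂) * a, H * (p + C₂ * σ p), H * (q + C₁ * σ q), Ideal.mul_mem_left _ _ ha,
      Ideal.mul_mem_left _ _ (add_mem hp (Ideal.mul_mem_left _ _ (hσI _ _ hp))),
      Ideal.mul_mem_left _ _ (add_mem hq (Ideal.mul_mem_left _ _ (hσI _ _ hq))), ?_, ?_, ?_, ?_⟩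
    · show σ _ = c₁ • _
      rw [Algebra.smul_def, map_sub, map_mul, map_add, map_mul, hσ, eU, AlgEquiv.commutes, AlgEquiv.commutes]
      linear_combination (H * σ q) * es₁
    · show σ _ = c₂ • _
      rw [Algebra.smul_def, map_sub, map_mul, map_add, map_mul, hσ, eV, AlgEquiv.commutes, AlgEquiv.commutes]
      linear_combination (H * σ p) * es₂
    · show c₁ * c₂ * (t + h * (1 + c₁ * c₂) * a) = t + h * (1 + c₁ * c₂) * a
      have hE' : c₁ * c₂ * t = t := hEt
      linear_combination hE' + (h * a * c₂ * c₂) * hs₁ + (h * a) * hs₂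
    · have hσr := hσI _ _ hr
      simp only [map_sub, map_add, map_mul, AlgEquiv.commutes, eU, eV] at hσr
      have := Ideal.mul_mem_left _ H (add_mem hr (Ideal.mul_mem_left _ (C₁ * C₂) hσr))
      convert this using 1
      simp only [map_mul, map_add, map_one]
      linear_combination (-(U * V - algebraMap R S t)) * eH + (H * U * σ p * C₂) * es₁
        + (H * V * σ q * C₁) * es₂ + (H : S) * et - (H * U * V * C₂ * C₂) * es₁ - (H * U * V) * es₂
  have hσmax : ∀ n, ∀ s ∈ maximalIdeal S ^ n, σ s ∈ maximalIdeal S ^ n := by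
    intro n
    have h1 : (maximalIdeal S).map σ.toAlgHom.toRingHom ≤ maximalIdeal S := by
      refine Ideal.map_le_iff_le_comap.2 fun s hs hu => hs ?_
      have := IsUnit.map σ.symm (show IsUnit (σ s) from hu)
      rwa [AlgEquiv.symm_apply_apply] at this
    have : (maximalIdeal S ^ n).map σ.toAlgHom.toRingHom ≤ maximalIdeal S ^ n := by
      rw [Ideal.map_pow]; exact Ideal.pow_right_mono h1 n
    exact fun s hs => this (Ideal.mem_map_of_mem _ hs)
  have hclosed : ∀ c : R, ∀ U : S, (∀ n, ∃ U', σ U' = c • U' ∧ U - U' ∈ maximalIdeal S ^ n) →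
      σ U = c • U := by
    intro c U hU
    refine sub_eq_zero.1 (eq_zero_of_forall_mem fun n => ?_)
    obtain ⟨U', h', hd⟩ := hU n
    rw [show σ U - c • U = σ (U - U') - c • (U - U') by rw [map_sub, h', smul_sub]; abel,
      Algebra.smul_def]
    exact sub_mem (hσmax n _ hd) (Ideal.mul_mem_left _ _ hd)
  have huv0 : U₀ * V₀ ∈ J (maximalIdeal R) S 1 := by
    rw [← hI1, ← hπI, map_mul, hU₀, hV₀, huv]
  obtain ⟨U, V, t, hPU, hQV, hEt, ht, hUV, hUu, hVv⟩ := exists_params (R := R) (C := S) U₀ V₀ huv0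
    P Q E (show σ U₀ = c₁ • U₀ by rw [Algebra.smul_def, hσU₀, hc₁, ← IsScalarTower.algebraMap_apply])
    (show σ V₀ = c₂ • V₀ by rw [Algebra.smul_def, hσV₀, hc₂, ← IsScalarTower.algebraMap_apply])
    (mul_zero _) hstep (hclosed c₁) (hclosed c₂) (fun t ht => by
      refine sub_eq_zero.1 (eq_zero_of_forall_mem fun n => ?_)
      obtain ⟨t', h', hd⟩ := ht n
      rw [show c₁ * c₂ * t - t = (c₁ * c₂ - 1) * (t - t') by linear_combination h']
      exact Ideal.mul_mem_left _ _ hd)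
  have hπc : ∀ {W W₀ : S} {z : N}, π W₀ = z → W - W₀ ∈ J (maximalIdeal R) S 1 → π W = z := by
    intro W W₀ z hz hW
    rw [← hz, ← sub_eq_zero, ← map_sub, hπI, hI1]; exact hW
  have hUm : U ∈ maximalIdeal S := (hconst U).1 (by rw [hπc hU₀ hUu]; exact hu0)
  have hVm : V ∈ maximalIdeal S := (hconst V).1 (by rw [hπc hV₀ hVv]; exact hv0)
  obtain ⟨ψ, hψ, hψ0, hψ1⟩ := exists_surjection U V t hUm hVm hres (gen_congr _ hgen hUu hVv) hUV
  obtain ⟨θ, hθ0, hθ1⟩ := PlaneCurve.exists_coord₂ (X 0 + X 1 : MvPowerSeries (Fin 2) k) (X 1 - X 0)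
    (by simp) (by simp) (by
      simp only [PlaneCurve.lc_add, PlaneCurve.lc_sub, PlaneCurve.lc_X]
      norm_num
      simpa using h2)
  have hspanθ : Ideal.span {(X 0 * X 1 : MvPowerSeries (Fin 2) k)} =
      (Ideal.span {(X 1 ^ 2 - X 0 ^ 2 : MvPowerSeries (Fin 2) k)}).map (θ.symm.toRingEquiv : _ →+* _) := by
    rw [Ideal.map_span, Set.image_singleton]
    congr 2
    apply θ.injective
    show θ (X 0 * X 1) = θ (θ.symm _)
    rw [AlgEquiv.apply_symm_apply, map_mul, hθ0, hθ1]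
    ring
  let eN : N ≃+* (MvPowerSeries (Fin 2) k ⧸ Ideal.span {(X 0 * X 1 : MvPowerSeries (Fin 2) k)}) :=
    Ideal.quotientEquiv _ _ θ.symm.toRingEquiv hspanθ
  let kR : k ≃+* ResidueField R := RingEquiv.ofBijective _ hresR
  let eM : MvPowerSeries (Fin 2) k ≃+* MvPowerSeries (Fin 2) (ResidueField R) :=
    RingEquiv.ofRingHom (MvPowerSeries.map (kR : k →+* ResidueField R))
      (MvPowerSeries.map (kR.symm : ResidueField R →+* k))
      (RingHom.ext fun f => MvPowerSeries.ext fun d => by simp)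
      (RingHom.ext fun f => MvPowerSeries.ext fun d => by simp)
  let eK : (MvPowerSeries (Fin 2) k ⧸ Ideal.span {(X 0 * X 1 : MvPowerSeries (Fin 2) k)}) ≃+*
      (MvPowerSeries (Fin 2) (ResidueField R) ⧸
        Ideal.span {(X 0 * X 1 : MvPowerSeries (Fin 2) (ResidueField R))}) :=
    Ideal.quotientEquiv _ _ eM (by rw [Ideal.map_span, Set.image_singleton]; simp [eM])
  have hψi : Function.Injective ψ := injective_psi (A := R) (R := R) (C := S)
    (by rw [Algebra.algebraMap_self, Ideal.map_id]) (fun c => ⟨c, by simp⟩) t ht ψ hψ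
    ((e.toRingEquiv.trans eN).trans eK)
  have hb : Function.Bijective ψ := ⟨hψi, hψ⟩
  refine ⟨t, ξ₂, ξ₁, by rw [pow_two, hξ₂], by rw [pow_two, hξ₁], fun hneg => ?_,
    (AlgEquiv.ofBijective ψ hb).symm, ?_, ?_⟩
  · have h1 : c₁ * c₂ = -1 := by rw [hc₁, hc₂, hneg, map_neg, mul_neg, ← map_mul, hξ₁, map_one]
    have hE' : c₁ * c₂ * t = t := hEt
    linear_combination (-h) * hE' - t * hh2 + (h * t) * h1
  all_goals
    rw [AlgEquiv.symm_symm, AlgEquiv.coe_ofBijective]
  · rw [hψ0, show σ U = c₁ • U from hPU, map_smul]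
    congr 1
    rw [← hψ0]
    exact (AlgEquiv.ofBijective ψ hb).symm_apply_apply _
  · rw [hψ1, show σ V = c₂ • V from hQV, map_smul]
    congr 1
    rw [← hψ1]
    exact (AlgEquiv.ofBijective ψ hb).symm_apply_apply _

end Groth.Agent.NodeFam
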