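import Mathlib
import Groth.Agent.NodeFam.Completion
import Groth.Agent.NodeFam.Iso
import Groth.Agent.FlatDepth.Quot

/-! A flat deformation of a nondegenerate quadratic double point completes to the standard one. -/

set_option autoImplicit false
set_option linter.all false
universe u

noncomputable section

namespace Groth.Agent.NodeFam

open IsLocalRing MvPowerSeries

section Params

variable {R C : Type u} [CommRing R] [IsLocalRing R] [CommRing C] [IsLocalRing C]
  [Algebra R C] [IsLocalHom (algebraMap R C)]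

/-- The value of a binary quadratic form. -/
def qv (a b c : R) (u v : C) : C :=
  algebraMap R C a * u ^ 2 + algebraMap R C b * u * v + algebraMap R C c * v ^ 2

theorem exists_quad_step (I : Ideal R) (a b c : R) (hd : IsUnit (b ^ 2 - 4 * a * c))
    (hres : ∀ x : C, ∃ r : R, x - algebraMap R C r ∈ maximalIdeal C) (u v : C)
    (hgen : maximalIdeal C ≤ Ideal.span {u, v} ⊔ J I C 1) (n : ℕ) (U V : C) (e : R)
    (hU : U - u ∈ J I C 1) (hV : V - v ∈ J I C 1)
    (hz : qv a b c U V - algebraMap R C e ∈ J I C (n + 1)) :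
    ∃ (p q : C) (e' : R), p ∈ J I C (n + 1) ∧ q ∈ J I C (n + 1) ∧ e' ∈ I ^ (n + 1) ∧
      qv a b c (U - p) (V - q) - algebraMap R C (e + e') ∈ J I C (n + 2) := by
  have hUV := gen_congr I hgen hU hV
  set a' := algebraMap R C a with ha'
  set b' := algebraMap R C b with hb'
  set c' := algebraMap R C c with hc'
  set U' := 2 * a' * U + b' * V with hU'
  set V' := b' * U + 2 * c' * V with hV'
  obtain ⟨w, hw⟩ := ((hd.map (algebraMap R C)).neg).exists_left_inv
  simp only [map_sub, map_pow, map_mul, map_ofNat, ← ha', ← hb', ← hc'] at hw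
  have hgen' : maximalIdeal C ≤ Ideal.span {U', V'} ⊔ J I C 1 := by
    refine hUV.trans (sup_le_sup_right (Ideal.span_le.2 ?_) _)
    rintro x (rfl | rfl)
    · refine Ideal.mem_span_pair.2 ⟨w * (2 * c'), -(w * b'), ?_⟩
      rw [hU', hV']
      linear_combination x * hw
    · refine Ideal.mem_span_pair.2 ⟨-(w * b'), w * (2 * a'), ?_⟩
      rw [hU', hV']
      linear_combination x * hw
  obtain ⟨e', p, q, he', hp, hq, hr⟩ := exists_step I hres U' V' hgen' (n + 1) hz
  refine ⟨p, q, e', hp, hq, he', ?_⟩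
  have h2 : qv a b c p q ∈ J I C (n + 2) := by
    refine J_mono I (show n + 2 ≤ (n + 1) + (n + 1) by omega) ?_
    unfold qv
    refine add_mem (add_mem (Ideal.mul_mem_left _ _ ?_) ?_) (Ideal.mul_mem_left _ _ ?_)
    · rw [pow_two]; exact J_mul I hp hp
    · rw [mul_assoc]; exact Ideal.mul_mem_left _ _ (J_mul I hp hq)
    · rw [pow_two]; exact J_mul I hq hq
  have := add_mem hr h2
  convert this using 1
  simp only [qv, map_add, hU', hV', ha', hb', hc']
  ring

theorem exists_quad_params [IsAdicComplete (maximalIdeal R) R] [IsAdicComplete (maximalIdeal C) C]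
    [IsNoetherianRing C] (a b c : R) (hd : IsUnit (b ^ 2 - 4 * a * c))
    (hres : ∀ x : C, ∃ r : R, x - algebraMap R C r ∈ maximalIdeal C) (u v : C)
    (huv : qv a b c u v ∈ J (maximalIdeal R) C 1)
    (hgen : maximalIdeal C ≤ Ideal.span {u, v} ⊔ J (maximalIdeal R) C 1) :
    ∃ (U V : C) (h : R), h ∈ maximalIdeal R ∧ qv a b c U V = algebraMap R C h ∧
      U - u ∈ J (maximalIdeal R) C 1 ∧ V - v ∈ J (maximalIdeal R) C 1 := by
  classical
  set I := maximalIdeal R with hI
  let Inv : ℕ → C × C × R → Prop := fun n t => t.1 - u ∈ J I C 1 ∧ t.2.1 - v ∈ J I C 1 ∧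
    t.2.2 ∈ I ∧ qv a b c t.1 t.2.1 - algebraMap R C t.2.2 ∈ J I C (n + 1)
  have hnext : ∀ n t, Inv n t → ∃ t', Inv (n + 1) t' ∧ t'.1 - t.1 ∈ J I C (n + 1) ∧
      t'.2.1 - t.2.1 ∈ J I C (n + 1) ∧ t'.2.2 - t.2.2 ∈ I ^ (n + 1) := by
    rintro n ⟨U, V, e⟩ ⟨hU, hV, he, hz⟩
    dsimp only at hU hV he hz
    obtain ⟨p, q, e', hp, hq, he', hr⟩ := exists_quad_step I a b c hd hres u v hgen n U V e hU hV hz
    refine ⟨(U - p, V - q, e + e'), ⟨?_, ?_, add_mem he (Ideal.pow_le_self (by omega) he'), hr⟩, ?_, ?_, ?_⟩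
    · show U - p - u ∈ _
      rw [sub_right_comm]; exact sub_mem hU (J_mono I (by omega) hp)
    · show V - q - v ∈ _
      rw [sub_right_comm]; exact sub_mem hV (J_mono I (by omega) hq)
    · show U - p - U ∈ _
      rw [sub_sub_cancel_left]; exact neg_mem hp
    · show V - q - V ∈ _
      rw [sub_sub_cancel_left]; exact neg_mem hq
    · show e + e' - e ∈ _
      rwa [add_sub_cancel_left]
  choose f hf using hnext
  have h0 : Inv 0 (u, v, 0) := ⟨by simp, by simp, zero_mem _, by simpa using huv⟩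
  let s : (n : ℕ) → {t : C × C × R // Inv n t} := fun n =>
    Nat.rec (motive := fun n => {t : C × C × R // Inv n t}) ⟨(u, v, 0), h0⟩
      (fun n t => ⟨f n t.1 t.2, (hf n t.1 t.2).1⟩) n
  obtain ⟨U, hU⟩ := exists_lim (fun n => (s n).1.1) fun n => J_le _ (hf n _ (s n).2).2.1
  obtain ⟨V, hV⟩ := exists_lim (fun n => (s n).1.2.1) fun n => J_le _ (hf n _ (s n).2).2.2.1
  obtain ⟨h, hh⟩ := exists_lim (fun n => (s n).1.2.2) fun n => (hf n _ (s n).2).2.2.2
  refine ⟨U, V, h, ?_, ?_, ?_, ?_⟩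
  · rw [show h = (h - (s 1).1.2.2) + (s 1).1.2.2 by ring]
    exact add_mem (by have := hh 1; rwa [pow_one] at this) (s 1).2.2.2.1
  · refine sub_eq_zero.1 (eq_zero_of_forall_mem fun n => ?_)
    have e1 : qv a b c (s n).1.1 (s n).1.2.1 - algebraMap R C (s n).1.2.2 ∈ maximalIdeal C ^ n :=
      Ideal.pow_le_pow_right (Nat.le_succ n) (J_le _ (s n).2.2.2.2)
    have e2 : algebraMap R C (h - (s n).1.2.2) ∈ maximalIdeal C ^ n := J_le n (mem_J _ (hh n))
    set U₁ := (s n).1.1
    set V₁ := (s n).1.2.1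
    have eU : U - U₁ ∈ maximalIdeal C ^ n := hU n
    have eV : V - V₁ ∈ maximalIdeal C ^ n := hV n
    rw [show qv a b c U V - algebraMap R C h = (U - U₁) * (algebraMap R C a * (U + U₁) +
        algebraMap R C b * V) + (V - V₁) * (algebraMap R C b * U₁ + algebraMap R C c * (V + V₁)) +
      (qv a b c U₁ V₁ - algebraMap R C (s n).1.2.2) - algebraMap R C (h - (s n).1.2.2) by
        simp only [qv, map_sub]; ring]
    exact sub_mem (add_mem (add_mem (Ideal.mul_mem_right _ _ eU) (Ideal.mul_mem_right _ _ eV)) e1) e2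
  · refine mem_of_forall_mem_sup _ fun n => ?_
    rw [show U - u = ((s n).1.1 - u) + (U - (s n).1.1) by ring]
    exact Submodule.add_mem_sup (s n).2.1 (hU n)
  · refine mem_of_forall_mem_sup _ fun n => ?_
    rw [show V - v = ((s n).1.2.1 - v) + (V - (s n).1.2.1) by ring]
    exact Submodule.add_mem_sup (s n).2.2.1 (hV n)

/-- The ideal of a standard quadratic double point. -/
abbrev qI {R : Type u} [CommRing R] (a b c h : R) : Ideal (MvPowerSeries (Fin 2) R) :=
  Ideal.span {(MvPowerSeries.C a * X 0 ^ 2 + MvPowerSeries.C b * X 0 * X 1 +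
    MvPowerSeries.C c * X 1 ^ 2 - MvPowerSeries.C h : MvPowerSeries (Fin 2) R)}

/-- The surjection from the standard quadratic double point. -/
theorem exists_quad_surjection [IsAdicComplete (maximalIdeal R) R] [IsAdicComplete (maximalIdeal C) C]
    (a b c h : R) (U V : C) (hU : U ∈ maximalIdeal C) (hV : V ∈ maximalIdeal C)
    (hres : ∀ x : C, ∃ r : R, x - algebraMap R C r ∈ maximalIdeal C)
    (hgen : maximalIdeal C ≤ Ideal.span {U, V} ⊔ J (maximalIdeal R) C 1)
    (hq : qv a b c U V = algebraMap R C h) :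
    ∃ ψ : (MvPowerSeries (Fin 2) R ⧸ qI a b c h) →ₐ[R] C,
      Function.Surjective ψ ∧ ψ (Ideal.Quotient.mk _ (X 0)) = U ∧
        ψ (Ideal.Quotient.mk _ (X 1)) = V := by
  obtain ⟨φ, hφ⟩ := ArtKit.exists_evalAdic (R := R) (maximalIdeal C) (![U, V] : Fin 2 → C)
    (fun i => by fin_cases i; exacts [hU, hV])
  have hC : ∀ r : R, φ (MvPowerSeries.C r) = algebraMap R C r := fun r => φ.commutes r
  have hker : ∀ x ∈ qI a b c h, φ x = 0 := by
    intro x hx
    obtain ⟨w, rfl⟩ := Ideal.mem_span_singleton'.1 hx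
    rw [map_mul]
    simp only [map_sub, map_add, map_mul, map_pow, hC, hφ]
    simp only [Matrix.cons_val_zero, Matrix.cons_val_one]
    rw [show algebraMap R C a * U ^ 2 + algebraMap R C b * U * V + algebraMap R C c * V ^ 2 =
      algebraMap R C h from hq, sub_self, mul_zero]
  refine ⟨Ideal.Quotient.liftₐ _ φ hker, ?_, hφ 0, hφ 1⟩
  suffices hs : Function.Surjective φ from fun x => by
    obtain ⟨p, hp⟩ := hs x
    exact ⟨Ideal.Quotient.mk _ p, hp⟩
  haveI : IsAdicComplete (maximalIdeal (MvPowerSeries (Fin 2) R)) (MvPowerSeries (Fin 2) R) :=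
    ArtKit.isAdicComplete_mvPowerSeries
  let M : Ideal C := (maximalIdeal (MvPowerSeries (Fin 2) R)).map φ.toRingHom
  have hX : ∀ i : Fin 2, (X i : MvPowerSeries (Fin 2) R) ∈ maximalIdeal _ := fun i => by
    rw [ArtKit.mem_maximalIdeal_iff_constantCoeff, constantCoeff_X]; exact zero_mem _
  have hM1 : maximalIdeal C ≤ M := by
    refine hgen.trans (sup_le (Ideal.span_le.2 ?_) ?_)
    · rintro x (hx | hx)
      · rw [hx, show U = φ (X 0) from (hφ 0).symm]; exact Ideal.mem_map_of_mem _ (hX 0)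
      · rw [Set.mem_singleton_iff.1 hx, show V = φ (X 1) from (hφ 1).symm]
        exact Ideal.mem_map_of_mem _ (hX 1)
    · rw [J, pow_one]
      refine Ideal.map_le_iff_le_comap.2 fun r hr => ?_
      rw [Ideal.mem_comap, ← hC]
      refine Ideal.mem_map_of_mem _ ?_
      rw [ArtKit.mem_maximalIdeal_iff_constantCoeff, constantCoeff_C]
      exact hr
  have hM2 : M ≤ maximalIdeal C := by
    refine Ideal.map_le_iff_le_comap.2 fun p hp => ?_
    rw [ArtKit.mem_maximalIdeal_iff_constantCoeff] at hp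
    have h0 := ArtPow.sub_C_constantCoeff_mem p
    have hle : Ideal.span (Set.range (X : Fin 2 → MvPowerSeries (Fin 2) R)) ≤
        (maximalIdeal C).comap φ.toRingHom := Ideal.span_le.2 (by
      rintro _ ⟨i, rfl⟩
      show φ (X i) ∈ maximalIdeal C
      rw [hφ]; fin_cases i; exacts [hU, hV])
    have h1 : φ (p - MvPowerSeries.C (constantCoeff p)) ∈ maximalIdeal C := hle h0
    rw [map_sub, hC] at h1
    show φ p ∈ maximalIdeal C
    simpa using add_mem h1 (map_max_le (Ideal.mem_map_of_mem _ hp))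
  haveI : IsHausdorff M C := ⟨fun x hx => IsHausdorff.haus' (I := maximalIdeal C) x fun n => by
    have := hx n
    rw [SModEq.sub_mem, sub_zero, smul_eq_mul, Ideal.mul_top] at this ⊢
    exact Ideal.pow_right_mono hM2 n this⟩
  refine surjective_of_mk_map_comp_surjective (f := φ.toRingHom)
    (I := maximalIdeal (MvPowerSeries (Fin 2) R)) fun x => ?_
  obtain ⟨x, rfl⟩ := Ideal.Quotient.mk_surjective x
  obtain ⟨r, hr⟩ := hres x
  refine ⟨MvPowerSeries.C r, ?_⟩
  show Ideal.Quotient.mk M (φ _) = Ideal.Quotient.mk M x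
  rw [hC, Ideal.Quotient.mk_eq_mk_iff_sub_mem]
  rw [show algebraMap R C r - x = -(x - algebraMap R C r) by ring]
  exact neg_mem (hM1 hr)

end Params

variable {A B : Type u} [CommRing A] [IsLocalRing A] [IsNoetherianRing A] [CommRing B]
  [IsLocalRing B] [IsNoetherianRing B] [Algebra A B] [IsLocalHom (algebraMap A B)]

local notation "Ah" => AdicCompletion (maximalIdeal A) A
local notation "Bh" => AdicCompletion (maximalIdeal B) B
variable {k : Type u} [Field k]

/-- A flat deformation of a nondegenerate quadratic double point, completed. -/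
theorem quad_main [Module.Flat A B] {F : Type u} [CommRing F] [IsLocalRing F] [IsNoetherianRing F]
    (φ : B →+* F) (hφ : Function.Surjective φ)
    (hker : RingHom.ker φ = (maximalIdeal A).map (algebraMap A B))
    (res : A →+* k) (hres_surj : Function.Surjective res) (a b c : A) (hd : res b ^ 2 - 4 * res a * res c ≠ 0)
    (q : MvPowerSeries (Fin 2) k)
    (hq : q = MvPowerSeries.C (res a) * X 0 ^ 2 + MvPowerSeries.C (res b) * X 0 * X 1 +
      MvPowerSeries.C (res c) * X 1 ^ 2)
    (e : AdicCompletion (maximalIdeal F) F ≃+* (MvPowerSeries (Fin 2) k ⧸ Ideal.span {q}))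
    (he : ∀ r : A, e (algebraMap F _ (φ (algebraMap A B r))) =
      Ideal.Quotient.mk _ (MvPowerSeries.C (res r))) :
    ∃ h ∈ maximalIdeal Ah, ∃ e' : Bh ≃+* (MvPowerSeries (Fin 2) Ah ⧸
        qI (algebraMap A Ah a) (algebraMap A Ah b) (algebraMap A Ah c) h),
      ∀ r : A, e' (algebraMap B Bh (algebraMap A B r)) =
        Ideal.Quotient.mk _ (MvPowerSeries.C (algebraMap A Ah r)) := by
  obtain ⟨f, hf, hloc⟩ := exists_complMap A B
  letI : Algebra Ah Bh := f.toAlgebra
  haveI : IsLocalHom (algebraMap Ah Bh) := hloc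
  haveI : IsScalarTower A Ah Bh := IsScalarTower.of_algebraMap_eq fun r => by
    rw [IsScalarTower.algebraMap_apply A B Bh]; exact (hf r).symm
  haveI : IsNoetherianRing Ah := AdicBasics.isNoetherianRing_completion A
  haveI : Module.Flat A Bh := Module.Flat.trans A B Bh
  set N := MvPowerSeries (Fin 2) k ⧸ Ideal.span {q} with hN
  obtain ⟨ψ₀, hψ₀, hψ₀c, hψ₀k⟩ := FlatDepth.exists_cpl_quotient φ hφ
  set Θ : Bh →+* N := e.toRingHom.comp ψ₀ with hΘdef
  have hΘ : Function.Surjective Θ := e.surjective.comp hψ₀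
  have hΘA : ∀ r : A, Θ (algebraMap A Bh r) = Ideal.Quotient.mk _ (MvPowerSeries.C (res r)) := by
    intro r
    rw [IsScalarTower.algebraMap_apply A B Bh, ← he r]
    exact congrArg e (RingHom.congr_fun hψ₀c _)
  have hΘk : RingHom.ker Θ = (maximalIdeal A).map (algebraMap A Bh) := by
    rw [hΘdef, RingHom.ker_comp_of_injective _ (f := e.toRingHom) e.injective, hψ₀k, hker, Ideal.map_map,
      ← IsScalarTower.algebraMap_eq]
  have hJ : (maximalIdeal A).map (algebraMap A Bh) = J (maximalIdeal Ah) Bh 1 := by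
    rw [J, pow_one, AdicCompletion.maximalIdeal_eq_map, Ideal.map_map,
      ← IsScalarTower.algebraMap_eq]
  haveI : Nontrivial N := e.symm.toEquiv.nontrivial
  haveI : IsLocalRing N := IsLocalRing.of_surjective' (Ideal.Quotient.mk _) Ideal.Quotient.mk_surjective
  haveI : IsLocalHom Θ := IsLocalHom.of_surjective Θ hΘ
  have hXN : ∀ i : Fin 2, Ideal.Quotient.mk (Ideal.span {q}) (X i) ∈ maximalIdeal N := fun i => by
    rw [← IsLocalRing.map_maximalIdeal_of_surjective (Ideal.Quotient.mk _) Ideal.Quotient.mk_surjective]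
    refine Ideal.mem_map_of_mem _ ?_
    rw [ArtKit.mem_maximalIdeal_iff_constantCoeff, constantCoeff_X]; exact zero_mem _
  obtain ⟨u, hu⟩ := hΘ (Ideal.Quotient.mk _ (X 0))
  obtain ⟨v, hv⟩ := hΘ (Ideal.Quotient.mk _ (X 1))
  have humem : u ∈ maximalIdeal Bh := fun h => (hu ▸ hXN 0 : Θ u ∈ maximalIdeal N) (h.map Θ)
  have hvmem : v ∈ maximalIdeal Bh := fun h => (hv ▸ hXN 1 : Θ v ∈ maximalIdeal N) (h.map Θ)
  have hgen : maximalIdeal Bh ≤ Ideal.span {u, v} ⊔ J (maximalIdeal Ah) Bh 1 := by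
    intro x hx
    have h1 : Θ x ∈ maximalIdeal N := map_nonunit Θ x hx
    rw [← IsLocalRing.map_maximalIdeal_of_surjective (Ideal.Quotient.mk _) Ideal.Quotient.mk_surjective] at h1
    have h2 : maximalIdeal (MvPowerSeries (Fin 2) k) ≤ Ideal.span {X 0, X 1} := by
      intro g hg
      rw [ArtKit.mem_maximalIdeal_iff_constantCoeff, IsLocalRing.maximalIdeal_eq_bot] at hg
      have h0 := ArtPow.sub_C_constantCoeff_mem g
      rw [show constantCoeff g = 0 from hg, map_zero, sub_zero] at h0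
      refine (Ideal.span_mono ?_) h0
      rintro _ ⟨i, rfl⟩
      fin_cases i <;> simp
    obtain ⟨g, hg, hgx⟩ := (Ideal.mem_map_iff_of_surjective _ Ideal.Quotient.mk_surjective).1 h1
    obtain ⟨r, s, hrs⟩ := Ideal.mem_span_pair.1 (h2 hg)
    obtain ⟨r', hr'⟩ := hΘ (Ideal.Quotient.mk _ r)
    obtain ⟨s', hs'⟩ := hΘ (Ideal.Quotient.mk _ s)
    rw [show x = (r' * u + s' * v) + (x - (r' * u + s' * v)) by ring]
    refine Submodule.add_mem_sup (Ideal.mem_span_pair.2 ⟨r', s', rfl⟩) ?_
    rw [← hJ, ← hΘk, RingHom.mem_ker, map_sub, map_add, map_mul, map_mul, hr', hs', hu, hv, ← map_mul,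
      ← map_mul, ← map_add, hrs, hgx, sub_self]
  have hres : ∀ x : Bh, ∃ r : Ah, x - algebraMap Ah Bh r ∈ maximalIdeal Bh := by
    intro x
    obtain ⟨g, hg⟩ := Ideal.Quotient.mk_surjective (Θ x)
    obtain ⟨r, hr⟩ := hres_surj (constantCoeff g)
    refine ⟨algebraMap A Ah r, fun h => ?_⟩
    rw [← IsScalarTower.algebraMap_apply] at h
    have h1 : IsUnit (Θ (x - algebraMap A Bh r)) := h.map Θ
    rw [map_sub, hΘA, hr, ← hg, ← map_sub] at h1
    refine (?_ : Ideal.Quotient.mk (Ideal.span {q}) (g - MvPowerSeries.C (constantCoeff g)) ∈ maximalIdeal N) h1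
    rw [← IsLocalRing.map_maximalIdeal_of_surjective (Ideal.Quotient.mk _) Ideal.Quotient.mk_surjective]
    refine Ideal.mem_map_of_mem _ ?_
    rw [ArtKit.mem_maximalIdeal_iff_constantCoeff]
    simp
  have hdA : IsUnit (b ^ 2 - 4 * a * c) := by
    rw [← notMem_maximalIdeal, ← IsLocalRing.ker_eq_maximalIdeal res hres_surj, RingHom.mem_ker,
      map_sub, map_pow, map_mul, map_mul, map_ofNat]
    exact hd
  have hdh : IsUnit (algebraMap A Ah b ^ 2 - 4 * algebraMap A Ah a * algebraMap A Ah c) := by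
    simpa [map_ofNat] using hdA.map (algebraMap A Ah)
  have huv : qv (algebraMap A Ah a) (algebraMap A Ah b) (algebraMap A Ah c) u v ∈ J (maximalIdeal Ah) Bh 1 := by
    rw [← hJ, ← hΘk, RingHom.mem_ker]
    simp only [qv, map_add, map_mul, map_pow, ← IsScalarTower.algebraMap_apply, hΘA, hu, hv]
    simp only [← map_mul, ← map_pow, ← map_add, ← hq]
    exact Ideal.Quotient.eq_zero_iff_mem.2 (Ideal.mem_span_singleton_self q)
  obtain ⟨U, V, h, hh, hUV, hUu, hVv⟩ :=
    exists_quad_params (R := Ah) (C := Bh) _ _ _ hdh hres u v huv hgen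
  have hmem : ∀ {W w : Bh}, w ∈ maximalIdeal Bh → W - w ∈ J (maximalIdeal Ah) Bh 1 →
      W ∈ maximalIdeal Bh := by
    intro W w hw hW
    have h2 := J_le (R := Ah) 1 hW
    rw [pow_one] at h2
    simpa using add_mem h2 hw
  set I' := qI (algebraMap A Ah a) (algebraMap A Ah b) (algebraMap A Ah c) h with hI'
  obtain ⟨ψ, hψ, hψ0, hψ1⟩ := exists_quad_surjection _ _ _ h U V (hmem humem hUu) (hmem hvmem hVv)
    hres (gen_congr _ hgen hUu hVv) hUV
  refine ⟨h, hh, ?_⟩
  let Q := MvPowerSeries (Fin 2) Ah ⧸ I'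
  -- the reduction of the coefficients
  let ρ₀ : Ah →+* ResidueField A := (RingEquiv.ofBijective (ResidueField.map (algebraMap A Ah))
    (AdicCompletion.residueField_map_bijective A)).symm.toRingHom.comp (residue Ah)
  have hρ₀A : ∀ r : A, ρ₀ (algebraMap A Ah r) = residue A r := fun r => by
    apply (AdicCompletion.residueField_map_bijective A).1
    rw [ResidueField.map_residue]
    exact (RingEquiv.ofBijective _ (AdicCompletion.residueField_map_bijective A)).apply_symm_apply _
  have hρ₀k : RingHom.ker ρ₀ = maximalIdeal Ah := by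
    show RingHom.ker ((RingEquiv.toRingHom _).comp (residue Ah)) = _
    rw [RingHom.ker_comp_of_injective _ (f := RingEquiv.toRingHom _) (RingEquiv.injective _)]
    exact IsLocalRing.ker_residue
  have hkres : RingHom.ker res = maximalIdeal A := IsLocalRing.ker_eq_maximalIdeal res hres_surj
  let kk : ResidueField A →+* k := Ideal.Quotient.lift (maximalIdeal A) res fun r hr => by
    rwa [← RingHom.mem_ker, hkres]
  let ρ : Ah →+* k := kk.comp ρ₀
  have hρA : ∀ r : A, ρ (algebraMap A Ah r) = res r := fun r => by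
    show kk (ρ₀ _) = _
    rw [hρ₀A]
    exact Ideal.Quotient.lift_mk _ _ _
  have hρk : RingHom.ker ρ = maximalIdeal Ah := by
    show RingHom.ker (kk.comp ρ₀) = _
    rw [RingHom.ker_comp_of_injective _ (f := kk) kk.injective, hρ₀k]
  have hρs : Function.Surjective ρ := fun x => by
    obtain ⟨r, rfl⟩ := hres_surj x
    exact ⟨_, hρA r⟩
  have hMs : Function.Surjective (MvPowerSeries.map (σ := Fin 2) ρ) := fun g => by
    choose r hr using fun d => hρs (coeff d g)
    exact ⟨r, MvPowerSeries.ext fun d => by rw [coeff_map]; exact hr d⟩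
  let π₀ : MvPowerSeries (Fin 2) Ah →+* N := (Ideal.Quotient.mk _).comp (MvPowerSeries.map ρ)
  have hmapq : MvPowerSeries.map (σ := Fin 2) ρ (MvPowerSeries.C (algebraMap A Ah a) * X 0 ^ 2 +
      MvPowerSeries.C (algebraMap A Ah b) * X 0 * X 1 + MvPowerSeries.C (algebraMap A Ah c) * X 1 ^ 2 -
      MvPowerSeries.C h) = q := by
    simp only [map_sub, map_add, map_mul, map_pow, map_X, map_C, hρA]
    rw [show ρ h = 0 by rw [← RingHom.mem_ker, hρk]; exact hh, map_zero, sub_zero, hq]
  have hπ₀ : ∀ x ∈ I', π₀ x = 0 := by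
    intro x hx
    obtain ⟨w, rfl⟩ := Ideal.mem_span_singleton'.1 hx
    show Ideal.Quotient.mk _ (MvPowerSeries.map ρ (w * _)) = 0
    rw [map_mul, hmapq, Ideal.Quotient.eq_zero_iff_mem]
    exact Ideal.mul_mem_left _ _ (Ideal.mem_span_singleton_self q)
  let π : Q →+* N := Ideal.Quotient.lift I' π₀ hπ₀
  have hπs : Function.Surjective π := by
    intro y
    obtain ⟨g, rfl⟩ := Ideal.Quotient.mk_surjective y
    obtain ⟨G, rfl⟩ := hMs g
    exact ⟨Ideal.Quotient.mk _ G, rfl⟩
  have halg : ∀ r : A, algebraMap A Q r = Ideal.Quotient.mk I' (MvPowerSeries.C (algebraMap A Ah r)) :=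
    fun r => by rw [← MvPowerSeries.algebraMap_apply]; rfl
  have hπk : RingHom.ker π ≤ (maximalIdeal A).map (algebraMap A Q) := by
    intro x hx
    obtain ⟨g, rfl⟩ := Ideal.Quotient.mk_surjective x
    obtain ⟨w, hw⟩ := Ideal.mem_span_singleton'.1
      (Ideal.Quotient.eq_zero_iff_mem.1 (show Ideal.Quotient.mk _ (MvPowerSeries.map ρ g) = 0 from hx))
    obtain ⟨W, rfl⟩ := hMs w
    rw [← hmapq, ← map_mul, eq_comm, ← sub_eq_zero, ← map_sub] at hw
    have hle : (maximalIdeal Ah).map (MvPowerSeries.C (σ := Fin 2) (R := Ah)) ≤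
        ((maximalIdeal A).map (algebraMap A Q)).comap (Ideal.Quotient.mk I') := by
      rw [AdicCompletion.maximalIdeal_eq_map, Ideal.map_map]
      refine Ideal.map_le_iff_le_comap.2 fun r hr => ?_
      rw [Ideal.mem_comap, Ideal.mem_comap, RingHom.comp_apply, ← halg]
      exact Ideal.mem_map_of_mem _ hr
    have h3 := hle (mem_map_C_of_coeff _ (IsNoetherian.noetherian _) fun d => by
      rw [← hρk, RingHom.mem_ker, ← coeff_map, hw, map_zero])
    rw [Ideal.mem_comap, map_sub, show Ideal.Quotient.mk I' (W * _) = 0 from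
      Ideal.Quotient.eq_zero_iff_mem.2 (Ideal.mul_mem_left _ _ (Ideal.mem_span_singleton_self _)),
      sub_zero] at h3
    exact h3
  have hAQ : ∀ r ∈ maximalIdeal A, Θ (ψ (algebraMap A Q r)) = 0 := by
    intro r hr
    rw [IsScalarTower.algebraMap_apply A Ah Q, AlgHom.commutes, ← IsScalarTower.algebraMap_apply, hΘA,
      (show res r = 0 by rwa [← RingHom.mem_ker, hkres]), map_zero, map_zero]
  have hker' : RingHom.ker π ≤ RingHom.ker (Θ.comp ψ.toRingHom) :=
    hπk.trans (Ideal.map_le_iff_le_comap.2 fun r hr => hAQ r hr)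
  let f' : N →+* N := π.liftOfSurjective hπs ⟨Θ.comp ψ.toRingHom, hker'⟩
  have hf' : ∀ x, f' (π x) = Θ (ψ x) := fun x => RingHom.liftOfRightInverse_comp_apply _ _ _ _ _
  have hfinj : Function.Injective f' := injective_of_surjective_endo f' fun y => by
    obtain ⟨x, rfl⟩ := hΘ.comp hψ y
    exact ⟨π x, hf' x⟩
  have hne : I' ≠ ⊤ := fun e => by
    have h1 := hπ₀ 1 (e ▸ Submodule.mem_top)
    exact one_ne_zero (h1.symm.trans (map_one π₀)).symm
  haveI : Nontrivial Q := Ideal.Quotient.nontrivial_iff.2 hne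
  haveI : IsLocalRing Q := IsLocalRing.of_surjective' (Ideal.Quotient.mk _) Ideal.Quotient.mk_surjective
  have hjac : (maximalIdeal A).map (algebraMap A Q) ≤ Ideal.jacobson ⊥ := by
    rw [IsLocalRing.jacobson_eq_maximalIdeal ⊥ bot_ne_top]
    refine Ideal.map_le_iff_le_comap.2 fun r hr => ?_
    rw [Ideal.mem_comap, halg,
      ← IsLocalRing.map_maximalIdeal_of_surjective (Ideal.Quotient.mk _) Ideal.Quotient.mk_surjective]
    refine Ideal.mem_map_of_mem _ ?_
    rw [ArtKit.mem_maximalIdeal_iff_constantCoeff, constantCoeff_C, AdicCompletion.maximalIdeal_eq_map]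
    exact Ideal.mem_map_of_mem _ hr
  let ψA : Q →ₐ[A] Bh := ψ.restrictScalars A
  have hinj : Function.Injective ψA := injective_of_flat ψA hψ (maximalIdeal A) hjac fun x hx => by
    refine hπk ?_
    rw [RingHom.mem_ker]
    refine hfinj ?_
    rw [hf', map_zero, ← RingHom.mem_ker, hΘk]
    exact hx
  refine ⟨(RingEquiv.ofBijective ψA.toRingHom ⟨hinj, hψ⟩).symm, fun r => ?_⟩
  rw [RingEquiv.symm_apply_eq, ← IsScalarTower.algebraMap_apply, ← halg]
  exact (ψA.commutes r).symm

/-- The split case. -/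
theorem split_main [Module.Flat A B] {F : Type u} [CommRing F] [IsLocalRing F] [IsNoetherianRing F]
    (φ : B →+* F) (hφ : Function.Surjective φ)
    (hker : RingHom.ker φ = (maximalIdeal A).map (algebraMap A B))
    (res : A →+* k) (hres_surj : Function.Surjective res)
    (e : AdicCompletion (maximalIdeal F) F ≃+*
      (MvPowerSeries (Fin 2) k ⧸ Ideal.span {(X 0 * X 1 : MvPowerSeries (Fin 2) k)}))
    (he : ∀ r : A, e (algebraMap F _ (φ (algebraMap A B r))) =
      Ideal.Quotient.mk _ (MvPowerSeries.C (res r))) :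
    ∃ h ∈ maximalIdeal Ah, ∃ e' : Bh ≃+* (MvPowerSeries (Fin 2) Ah ⧸
        Ideal.span {(X 0 * X 1 - MvPowerSeries.C h : MvPowerSeries (Fin 2) Ah)}),
      ∀ r : A, e' (algebraMap B Bh (algebraMap A B r)) =
        Ideal.Quotient.mk _ (MvPowerSeries.C (algebraMap A Ah r)) := by
  obtain ⟨h, hh, e', he'⟩ := quad_main φ hφ hker res hres_surj 0 1 0 (by simp) (X 0 * X 1) (by simp) e he
  have hI : qI (algebraMap A Ah 0) (algebraMap A Ah 1) (algebraMap A Ah 0) h =
      Ideal.span {(X 0 * X 1 - MvPowerSeries.C h : MvPowerSeries (Fin 2) Ah)} := by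
    simp [qI]
  refine ⟨h, hh, e'.trans (Ideal.quotEquivOfEq hI), fun r => ?_⟩
  rw [RingEquiv.trans_apply, he' r, Ideal.quotEquivOfEq_mk]

end Groth.Agent.NodeFam
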